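import Groth.Agent.FDesc.K108.IdealDesc
import Mathlib.RingTheory.Flat.TorsionFree
import Mathlib.AlgebraicGeometry.Fiber
import Mathlib.AlgebraicGeometry.Morphisms.Flat

/-!
# Schematic closure of the generic fibre over a Dedekind domain

* `isUnit_appTop` : sections invertible at the points of the image of `g` pull back to units.
* `flat_of_dominant` : a scheme over a Dedekind domain receiving a scheme-theoretically dominant
  morphism on whose source the nonzero elements of the base are invertible is flat.
-/

set_option autoImplicit false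
open CategoryTheory AlgebraicGeometry TopologicalSpace
universe u

namespace K108.FlatClosure

theorem isUnit_of_basicOpen_eq_top {X : Scheme.{u}} (s : Γ(X, ⊤)) (h : X.basicOpen s = ⊤) :
    IsUnit s := by
  refine RingedSpace.isUnit_of_isUnit_germ X.toRingedSpace ⊤ s fun x hx => ?_
  have : x ∈ X.basicOpen s := by rw [h]; trivial
  exact (X.mem_basicOpen_top s x).mp this

/-- If `r` does not vanish at any point of the image of `g`, its pull-back is a unit. -/
theorem isUnit_appTop {R : Type u} [CommRing R] {X : Scheme.{u}}
    (g : X ⟶ Spec (CommRingCat.of R)) (r : R) (h : ∀ x : X, r ∉ (g x).asIdeal) :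
    IsUnit (g.appTop ((Scheme.ΓSpecIso (CommRingCat.of R)).inv r)) := by
  apply isUnit_of_basicOpen_eq_top
  rw [← Scheme.preimage_basicOpen_top, eq_top_iff]
  intro x _
  change g x ∈ (Spec (CommRingCat.of R)).basicOpen ((Scheme.ΓSpecIso (CommRingCat.of R)).inv r)
  rw [basicOpen_eq_of_affine]
  exact h x

/-- A scheme over a Dedekind domain receiving a scheme-theoretically dominant quasi-compact
morphism whose image lies over the generic point is flat. -/
theorem flat_of_dominant {R : Type u} [CommRing R] [IsDedekindDomain R]
    {X Y : Scheme.{u}} (t : X ⟶ Y) [QuasiCompact t]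
    [IsSchemeTheoreticallyDominant t] (q : Y ⟶ Spec (CommRingCat.of R))
    (h : ∀ x : X, (q (t x)).asIdeal = ⊥) : Flat q := by
  refine (IsZariskiLocalAtSource.iff_of_openCover (P := @Flat) Y.affineCover).2 fun i => ?_
  obtain ⟨A, hA⟩ : ∃ A : CommRingCat.{u}, Y.affineCover.X i = Spec A := ⟨_, rfl⟩
  have key : ∀ (A : CommRingCat.{u}) (j : Spec A ⟶ Y) [IsOpenImmersion j], Flat (j ≫ q) := by
    intro A j _
    obtain ⟨ψ, hψ⟩ := Spec.map_surjective (j ≫ q)
    rw [← hψ, Flat.SpecMap_iff]
    let _ : Algebra R A := ψ.hom.toAlgebra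
    change Module.Flat R A
    let t' : Limits.pullback t j ⟶ Spec A := Limits.pullback.snd t j
    have ht' : IsSchemeTheoreticallyDominant t' :=
      inferInstanceAs (IsSchemeTheoreticallyDominant (Limits.pullback.snd t j))
    have hinj : Function.Injective t'.appTop := t'.app_injective ⊤
    have hsq : t' ≫ Spec.map ψ = Limits.pullback.fst t j ≫ t ≫ q := by
      rw [hψ, ← Category.assoc, ← Category.assoc, Limits.pullback.condition]
    have htf : Module.IsTorsionFree R A := by
      refine .of_smul_eq_zero fun r a hra => ?_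
      by_contra hcon
      push Not at hcon
      obtain ⟨hr, ha⟩ := hcon
      have hu : IsUnit (t'.appTop ((Scheme.ΓSpecIso A).inv (ψ.hom r))) := by
        have h2 : (Spec.map ψ).appTop ((Scheme.ΓSpecIso (CommRingCat.of R)).inv r) =
            (Scheme.ΓSpecIso A).inv (ψ.hom r) := by
          rw [← ConcreteCategory.comp_apply, ← Scheme.ΓSpecIso_inv_naturality]
          rfl
        rw [← h2, ← ConcreteCategory.comp_apply, ← Scheme.Hom.comp_appTop, hsq]
        apply isUnit_appTop
        intro x hx
        have hx' : r ∈ (q (t (Limits.pullback.fst t j x))).asIdeal := hx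
        rw [h] at hx'
        exact hr hx'
      have h0 : ψ.hom r * a = 0 := hra
      have h1 : t'.appTop ((Scheme.ΓSpecIso A).inv (ψ.hom r)) *
          t'.appTop ((Scheme.ΓSpecIso A).inv a) = 0 := by
        rw [← map_mul, ← map_mul, h0, map_zero, map_zero]
      have h2 := hu.mul_right_eq_zero.mp h1
      have h3 : (Scheme.ΓSpecIso A).inv a = 0 := hinj (by rw [h2, map_zero])
      have h4 : (Scheme.ΓSpecIso A).hom ((Scheme.ΓSpecIso A).inv a) = 0 := by rw [h3, map_zero]
      rw [← ConcreteCategory.comp_apply, Iso.inv_hom_id] at h4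
      exact ha h4
    infer_instance
  rw [show Y.affineCover.f i ≫ q = eqToHom hA ≫ (eqToHom hA.symm ≫ Y.affineCover.f i) ≫ q by simp]
  have := key A (eqToHom hA.symm ≫ Y.affineCover.f i)
  infer_instance

end K108.FlatClosure
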