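import Groth.Agent.FDesc.K108.SuppDown
import Groth.Agent.FDesc.K108.FlatClosure
import Groth.Agent.Ega1.QcqsPush
import Mathlib.RingTheory.RegularLocalRing.Defs
import Mathlib.RingTheory.DiscreteValuationRing.TFAE
import Mathlib.AlgebraicGeometry.FunctionField

/-!
# Modules and the generic fibre

`Y` integral with generic point `η`, `f : X ⟶ Y`, `i : X_η ⟶ X` the inclusion of the generic fibre.

* `eq_zero_of_generic` : an element of a stalk of a quasi-coherent torsion-free module that vanishes
  at the generizations in the generic fibre is zero.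
* `canAdd_bijective` : stalks of `i^* M`.
* `pushAdd_injective`, `eq_zero_of_smul_push` : stalks of `i_* N`.
-/

set_option autoImplicit false
set_option linter.style.haveILetI false
open CategoryTheory AlgebraicGeometry TopologicalSpace IsLocalRing
universe u

namespace K108.GenFib
open Groth.Agent.Fdesc.PullbackStalk Groth.Agent.CycB.StalkExact Groth.Agent.CycB

variable {X Y Z : Scheme.{u}}

/-- A regular local domain of dimension at most one is a Dedekind domain. -/
theorem isDedekindDomain_of_regular (A : Type*) [CommRing A] [IsDomain A]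
    (h : IsRegularLocalRing A) (hd : ringKrullDim A ≤ 1) : IsDedekindDomain A := by
  have h1 : Module.finrank (ResidueField A) (CotangentSpace A) ≤ 1 := by
    rw [← IsLocalRing.spanFinrank_maximalIdeal_eq_finrank_cotangentSpace]
    have h2 := h.spanFinrank_maximalIdeal
    rw [← h2] at hd
    exact_mod_cast hd
  exact ((tfae_of_isNoetherianRing_of_isLocalRing_of_isDomain A).out 5 2).mp h1

theorem stalkLin_eq_stalkMap {M N : X.Modules} (φ : M ⟶ N) (x : X) (t : M.presheaf.stalk x) :
    stalkLin φ x t = Groth.Agent.Fdesc.Skyscraper.stalkMap φ x t :=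
  (Groth.Agent.Fdesc.Skyscraper.stalkMap_eq φ x t).symm

/-- The germ of a morphism and specialization. -/
theorem stalkLin_stalkSpecializes {M N : X.Modules} (φ : M ⟶ N) {x ξ : X} (h : ξ ⤳ x)
    (t : M.presheaf.stalk x) :
    stalkLin φ ξ (M.presheaf.stalkSpecializes h t) =
      N.presheaf.stalkSpecializes h (stalkLin φ x t) := by
  obtain ⟨V, hV, s, rfl⟩ := TopCat.Presheaf.exists_germ_eq M.presheaf t
  rw [StalkLoc.germ_stalkSpecializes, stalkLin_germ, stalkLin_germ,
    StalkLoc.germ_stalkSpecializes]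

theorem stalkSpecializes_generic_injective [IsIntegral Y] {y ξ : Y} (h : ξ ⤳ y) :
    Function.Injective (Y.presheaf.stalkSpecializes h) := by
  rw [injective_iff_map_eq_zero]
  intro a ha
  obtain ⟨U, hyU, a, rfl⟩ := Y.presheaf.exists_germ_eq a
  rw [StalkLoc.ring_germ_stalkSpecializes] at ha
  have h1 : a = 0 := germ_injective_of_isIntegral Y ξ _ (by rw [ha, map_zero])
  rw [h1, map_zero]

theorem maximalIdeal_generic [IsIntegral Y] :
    maximalIdeal (Y.presheaf.stalk (genericPoint Y)) = ⊥ :=
  IsLocalRing.isField_iff_maximalIdeal_eq.mp (Field.toIsField Y.functionField)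

theorem primeOf_generic [IsIntegral Y] (y : Y) :
    LocQuot.primeOf (genericPoint_specializes y) = ⊥ := by
  apply PrimeSpectrum.ext
  change Ideal.comap (Y.presheaf.stalkSpecializes (genericPoint_specializes y)).hom
    (maximalIdeal _) = ⊥
  rw [maximalIdeal_generic]
  exact (RingHom.injective_iff_ker_eq_bot _).mp
    (stalkSpecializes_generic_injective (genericPoint_specializes y))

theorem fromSpecStalk_bot [IsIntegral Y] (y : Y) :
    Y.fromSpecStalk y (⊥ : PrimeSpectrum (Y.presheaf.stalk y)) = genericPoint Y := by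
  have h := SuppDown.fromSpecStalk_primeOf (genericPoint_specializes y)
  rw [primeOf_generic] at h
  exact h

/-- An element of a stalk of a quasi-coherent module, torsion-free over the base, which vanishes at
the generizations lying over the generic point of the base, is zero. -/
theorem eq_zero_of_generic [IsIntegral Y] (f : X ⟶ Y) (G : X.Modules) (hG : Coh.IsQCoh G) (x : X)
    (htf : ∀ (a : Y.presheaf.stalk (f x)) (s : G.presheaf.stalk x), a ≠ 0 →
      f.stalkMap x a • s = 0 → s = 0)
    (s : G.presheaf.stalk x)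
    (h : ∀ (ξ : X) (hξ : ξ ⤳ x), f ξ = genericPoint Y → G.presheaf.stalkSpecializes hξ s = 0) :
    s = 0 := by
  by_contra hs
  let J : Ideal (X.presheaf.stalk x) := LinearMap.ker (LinearMap.toSpanSingleton _ _ s)
  have hJ : ∀ b : X.presheaf.stalk x, b ∈ J ↔ b • s = 0 := fun b => Iff.rfl
  let S : Submonoid (X.presheaf.stalk x) :=
    (nonZeroDivisors (Y.presheaf.stalk (f x))).map (f.stalkMap x).hom
  have hd : Disjoint (J : Set (X.presheaf.stalk x)) S := by
    rw [Set.disjoint_left]
    rintro _ hb ⟨a, ha, rfl⟩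
    exact hs (htf a s (nonZeroDivisors.ne_zero ha) hb)
  obtain ⟨p, hp, hJp, hdp⟩ := Ideal.exists_le_prime_disjoint J S hd
  let q : PrimeSpectrum (X.presheaf.stalk x) := ⟨p, hp⟩
  have hq : PrimeSpectrum.comap (f.stalkMap x).hom q = ⊥ := by
    apply PrimeSpectrum.ext
    change (PrimeSpectrum.comap (f.stalkMap x).hom q).asIdeal = (⊥ : Ideal _)
    rw [eq_bot_iff]
    intro a ha
    by_contra hcon
    exact Set.disjoint_left.mp hdp ha ⟨a, mem_nonZeroDivisors_of_ne_zero hcon, rfl⟩
  let ξ := X.fromSpecStalk x q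
  have hξ : ξ ⤳ x := by
    have : X.fromSpecStalk x q ∈ Set.range (X.fromSpecStalk x) := ⟨q, rfl⟩
    rw [Scheme.range_fromSpecStalk] at this
    exact this
  have hfξ : f ξ = genericPoint Y := by
    have h1 := Scheme.SpecMap_stalkMap_fromSpecStalk f (x := x)
    have h2 : (X.fromSpecStalk x ≫ f) q = (Spec.map (f.stalkMap x) ≫ Y.fromSpecStalk _) q := by
      rw [h1]
    rw [← fromSpecStalk_bot (f x)]
    refine h2.trans ?_
    change Y.fromSpecStalk (f x) (PrimeSpectrum.comap (f.stalkMap x).hom q) = _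
    rw [hq]
  have h0 := h ξ hξ hfξ
  have hprime : LocQuot.primeOf hξ = q :=
    (X.fromSpecStalk x).isEmbedding.injective (SuppDown.fromSpecStalk_primeOf hξ)
  letI := StalkLoc.specMod G hξ
  have h3 := StalkLoc.isLocalizedModule_specLin G hG hξ
  obtain ⟨c, hc⟩ := (IsLocalizedModule.eq_zero_iff (RingHom.ker (Cyc.specMap x _ hξ)).primeCompl
    (StalkLoc.specLin G hξ)).mp h0
  have h4 : (c : X.presheaf.stalk x) ∈ p := hJp ((hJ _).mpr hc)
  have h5 : RingHom.ker (Cyc.specMap x _ hξ) = p := by
    rw [← LocQuot.primeOf_asIdeal hξ, hprime]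
  exact c.2 ((SetLike.ext_iff.mp h5 _).mpr h4)

theorem isFlatOverAt_iff [IsIntegral Y] (f : X ⟶ Y) (G : X.Modules) (x : X)
    (hY : IsRegularLocalRing (Y.presheaf.stalk (f x)) ∧ ringKrullDim (Y.presheaf.stalk (f x)) ≤ 1) :
    FlatMod.IsFlatOverAt f G x ↔ ∀ (a : Y.presheaf.stalk (f x)) (s : G.presheaf.stalk x), a ≠ 0 →
      f.stalkMap x a • s = 0 → s = 0 := by
  letI := FlatMod.moduleStalkOver f G x
  haveI : IsDedekindDomain (Y.presheaf.stalk (f.base x)) :=
    isDedekindDomain_of_regular _ hY.1 hY.2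
  constructor
  · intro h a s ha hs
    haveI : Module.Flat (Y.presheaf.stalk (f.base x)) (G.presheaf.stalk x) := h
    have h1 : (a : Y.presheaf.stalk (f.base x)) • s = 0 := hs
    exact (smul_eq_zero.mp h1).resolve_left ha
  · intro h
    haveI : Module.IsTorsionFree (Y.presheaf.stalk (f.base x)) (G.presheaf.stalk x) :=
      .of_smul_eq_zero fun a s has => or_iff_not_imp_left.mpr fun ha => h a s ha has
    exact (inferInstance : Module.Flat (Y.presheaf.stalk (f.base x)) (G.presheaf.stalk x))

section fibre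

variable [IsIntegral Y] (f : X ⟶ Y)

theorem stalkMap_fiberι_bijective (z : f.fiber (genericPoint Y)) :
    Function.Bijective ((f.fiberι (genericPoint Y)).stalkMap z) := by
  refine ⟨?_, FiberKer.stalkMap_fiberι_surjective f _ z⟩
  have h1 := FiberKer.ker_stalkMap_fiberι f _ z
  have h2 : maximalIdeal (Y.presheaf.stalk (f (f.fiberι (genericPoint Y) z))) = ⊥ := by
    have h3 := FiberKer.apply_fiberι f _ z
    generalize f (f.fiberι (genericPoint Y) z) = y at h3
    subst h3
    exact maximalIdeal_generic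
  rw [h2, Ideal.map_bot] at h1
  exact (RingHom.injective_iff_ker_eq_bot _).mpr h1

instance flat_fiberι : Flat (f.fiberι (genericPoint Y)) := by
  rw [Flat.iff_flat_stalkMap]
  intro z
  exact RingHom.Flat.of_bijective (stalkMap_fiberι_bijective f z)

instance quasiCompact_fiberι {X Y : Scheme.{u}} (f : X ⟶ Y) (y : Y) :
    QuasiCompact (f.fiberι y) := by
  have h : QuasiCompact (Y.fromSpecResidueField y) :=
    ⟨fun U _ _ => (Set.subsingleton_of_subsingleton).isCompact⟩
  exact MorphismProperty.pullback_fst (P := @QuasiCompact) _ _ h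

theorem canAdd_surjective (M : X.Modules) (z : f.fiber (genericPoint Y)) :
    Function.Surjective (canAdd (f.fiberι (genericPoint Y)) M z) := by
  intro t
  have ht : t ∈ Submodule.span ((f.fiber (genericPoint Y)).presheaf.stalk z) (Set.range (canAdd (f.fiberι (genericPoint Y)) M z)) := by
    rw [span_range_canAdd]; trivial
  induction ht using Submodule.span_induction with
  | mem x hx => exact hx
  | zero => exact ⟨0, map_zero _⟩
  | add a b _ _ ha hb =>
    obtain ⟨a, rfl⟩ := ha
    obtain ⟨b, rfl⟩ := hb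
    exact ⟨a + b, map_add _ _ _⟩
  | smul r a _ ha =>
    obtain ⟨a, rfl⟩ := ha
    obtain ⟨r, rfl⟩ := (stalkMap_fiberι_bijective f z).2 r
    exact ⟨r • a, canAdd_smul _ M z r a⟩

theorem canAdd_bijective (M : X.Modules) (z : f.fiber (genericPoint Y)) :
    Function.Bijective (canAdd (f.fiberι (genericPoint Y)) M z) :=
  ⟨Groth.Agent.Fdesc.StalkExt.canAdd_injective _ M z, canAdd_surjective f M z⟩

end fibre

/-- For `i` inducing, the map `(i_* N)_{i z} → N_z` is injective. -/
theorem pushAdd_injective (i : Z ⟶ X) (hi : Topology.IsInducing i) (N : Z.Modules) (z : Z) :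
    Function.Injective (pushAdd i N z) := by
  rw [injective_iff_map_eq_zero]
  intro t ht
  obtain ⟨V, hV, s, rfl⟩ := TopCat.Presheaf.exists_germ_eq _ t
  rw [pushAdd_germ] at ht
  obtain ⟨W, hzW, iW, iW', hW⟩ := TopCat.Presheaf.germ_eq N.presheaf (U := i ⁻¹ᵁ V)
    (V := i ⁻¹ᵁ V) z hV hV s 0 (by rw [ht, map_zero])
  obtain ⟨V', hV', hVW⟩ := hi.isOpen_iff.mp W.2
  let V'' : X.Opens := V ⊓ ⟨V', hV'⟩
  have hz : i.base z ∈ V'' := ⟨hV, show z ∈ i ⁻¹' V' by rw [hVW]; exact hzW⟩
  have hle : i ⁻¹ᵁ V'' ≤ W := by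
    intro w hw
    have : w ∈ i ⁻¹' V' := hw.2
    rw [hVW] at this
    exact this
  have h1 : (((Scheme.Modules.pushforward i).obj N).presheaf.map
      (homOfLE inf_le_left : V'' ⟶ V).op) s = 0 := by
    have h2 := congrArg (N.presheaf.map (homOfLE hle).op) hW
    rw [← ConcreteCategory.comp_apply, ← ConcreteCategory.comp_apply, ← N.presheaf.map_comp,
      ← N.presheaf.map_comp, map_zero] at h2
    exact h2
  have h3 := TopCat.Presheaf.germ_res_apply ((Scheme.Modules.pushforward i).obj N).presheaf
    (homOfLE inf_le_left : V'' ⟶ V) (i.base z) hz s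
  rw [← h3, h1, map_zero]

/-- Transposes and stalks. -/
theorem stalkLin_homEquiv_symm (i : Z ⟶ X) {M : X.Modules} {N : Z.Modules}
    (ι : M ⟶ (Scheme.Modules.pushforward i).obj N) (z : Z) (t : M.presheaf.stalk (i.base z)) :
    stalkLin (((Scheme.Modules.pullbackPushforwardAdjunction i).homEquiv M N).symm ι) z
      (canAdd i M z t) = pushAdd i N z (stalkLin ι (i.base z) t) := by
  obtain ⟨V, hV, s, rfl⟩ := TopCat.Presheaf.exists_germ_eq M.presheaf t
  rw [canAdd_germ, stalkLin_germ, stalkLin_germ, pushAdd_germ]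
  congr 1
  have h : ι = (Scheme.Modules.pullbackPushforwardAdjunction i).unit.app M ≫
      (Scheme.Modules.pushforward i).map
        (((Scheme.Modules.pullbackPushforwardAdjunction i).homEquiv M N).symm ι) := by
    exact (Equiv.apply_symm_apply ((Scheme.Modules.pullbackPushforwardAdjunction i).homEquiv M N)
      ι).symm.trans (Adjunction.homEquiv_unit _ _ _ _)
  exact (ConcreteCategory.congr_hom (congrArg (fun k => Scheme.Modules.Hom.app k V) h) s).symm

theorem isUnit_germ_generic [IsIntegral Y] {V : Y.Opens} (a : Γ(Y, V)) (ha : a ≠ 0) (y : Y)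
    (hy : y ∈ V) (h : y = genericPoint Y) : IsUnit (Y.presheaf.germ V y hy a) := by
  subst h
  by_contra hcon
  have h1 : Y.presheaf.germ V _ hy a ∈ maximalIdeal (Y.presheaf.stalk (genericPoint Y)) := hcon
  rw [maximalIdeal_generic] at h1
  have h2 : Y.presheaf.germ V _ hy a = 0 := h1
  exact ha (germ_injective_of_isIntegral Y _ hy (by rw [h2, map_zero]))

/-- Stalks of `i_* N`, where `i : Z ⟶ X` lands in the generic fibre, are torsion-free over the
base. -/
theorem eq_zero_of_smul_push [IsIntegral Y] (f : X ⟶ Y) (i : Z ⟶ X)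
    (hi : ∀ z, f (i z) = genericPoint Y) (N : Z.Modules) (x : X)
    (a : Y.presheaf.stalk (f x)) (t : ((Scheme.Modules.pushforward i).obj N).presheaf.stalk x)
    (ha : a ≠ 0) (h : f.stalkMap x a • t = 0) : t = 0 := by
  obtain ⟨V, hV, a, rfl⟩ := Y.presheaf.exists_germ_eq a
  obtain ⟨U, hU, t, rfl⟩ := TopCat.Presheaf.exists_germ_eq _ t
  have ha' : a ≠ 0 := by
    rintro rfl
    exact ha (map_zero _)
  let W : X.Opens := U ⊓ f ⁻¹ᵁ V
  have hxW : x ∈ W := ⟨hU, hV⟩
  have h1 : f.stalkMap x (Y.presheaf.germ V (f x) hV a) =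
      X.presheaf.germ W x hxW (X.presheaf.map (homOfLE inf_le_right).op (f.app V a)) := by
    rw [TopCat.Presheaf.germ_res_apply]
    exact ConcreteCategory.congr_hom (Scheme.Hom.germ_stalkMap f V x hV) a
  have h2 : ((Scheme.Modules.pushforward i).obj N).presheaf.germ U x hU t =
      ((Scheme.Modules.pushforward i).obj N).presheaf.germ W x hxW
      (((Scheme.Modules.pushforward i).obj N).presheaf.map (homOfLE inf_le_left).op t) := by
    rw [TopCat.Presheaf.germ_res_apply]
  rw [h1, h2, ← StalkExact.germ_smul] at h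
  obtain ⟨W', hxW', iW, iW', hW⟩ := TopCat.Presheaf.germ_eq
    ((Scheme.Modules.pushforward i).obj N).presheaf x hxW hxW _ 0 (by rw [h, map_zero])
  rw [map_zero] at hW
  have h3 := (Scheme.Modules.map_smul (M := (Scheme.Modules.pushforward i).obj N) iW
    (X.presheaf.map (homOfLE inf_le_right).op (f.app V a))
    (((Scheme.Modules.pushforward i).obj N).presheaf.map (homOfLE inf_le_left).op t)).symm.trans hW
  have hle : W' ≤ f ⁻¹ᵁ V := iW.le.trans inf_le_right
  have h4 : X.presheaf.map iW.op (X.presheaf.map (homOfLE inf_le_right).op (f.app V a)) =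
      X.presheaf.map (homOfLE hle).op (f.app V a) := by
    rw [← ConcreteCategory.comp_apply, ← X.presheaf.map_comp]
    rfl
  rw [h4] at h3
  have hu : IsUnit (i.app W' (X.presheaf.map (homOfLE hle).op (f.app V a))) := by
    refine RingedSpace.isUnit_of_isUnit_germ Z.toRingedSpace (i ⁻¹ᵁ W') _ fun z hz => ?_
    have h5 : Z.presheaf.germ (i ⁻¹ᵁ W') z hz
        (i.app W' (X.presheaf.map (homOfLE hle).op (f.app V a))) =
        i.stalkMap z (f.stalkMap (i z) (Y.presheaf.germ V (f (i z)) (hle hz) a)) := by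
      have e1 := ConcreteCategory.congr_hom (Scheme.Hom.germ_stalkMap i W' z hz)
        (X.presheaf.map (homOfLE hle).op (f.app V a))
      have e2 := ConcreteCategory.congr_hom (Scheme.Hom.germ_stalkMap f V (i z) (hle hz)) a
      refine e1.symm.trans ?_
      change i.stalkMap z (X.presheaf.germ W' (i z) hz (X.presheaf.map (homOfLE hle).op
        (f.app V a))) = _
      rw [TopCat.Presheaf.germ_res_apply]
      exact congrArg (i.stalkMap z) e2.symm
    refine (congrArg IsUnit h5).mpr ?_
    exact ((isUnit_germ_generic a ha' _ _ (hi z)).map (f.stalkMap (i z)).hom).map (i.stalkMap z).hom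
  have h6 : (((Scheme.Modules.pushforward i).obj N).presheaf.map iW.op
      (((Scheme.Modules.pushforward i).obj N).presheaf.map (homOfLE inf_le_left).op t)) = 0 := by
    have h7 : ∀ (c : Γ(Z, i ⁻¹ᵁ W')) (v : Γ(N, i ⁻¹ᵁ W')), IsUnit c → c • v = 0 → v = 0 :=
      fun c v hc hcv => hc.smul_eq_zero.mp hcv
    exact h7 _ _ hu h3
  have h8 := TopCat.Presheaf.germ_res_apply ((Scheme.Modules.pushforward i).obj N).presheaf
    (iW) x hxW' (((Scheme.Modules.pushforward i).obj N).presheaf.map (homOfLE inf_le_left).op t)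
  rw [h2, ← h8, h6, map_zero]

end K108.GenFib
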