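import Groth.Agent.FDesc.K108.GenQuot
import Mathlib.RingTheory.DedekindDomain.Dvr

/-!
# Flat quotients with given generic fibre, for other presentations of the generic fibre

* `exists_quotient_of` : version of `GenQuot.exists_quotient` for any `i : Z ⟶ X` quasi-compact
  quasi-separated, inducing, surjective on stalks, with image in the generic fibre.
* `stalk_dedekind` : local rings of a Dedekind domain.
-/

set_option autoImplicit false
open CategoryTheory AlgebraicGeometry
universe u

namespace K108.GenQuotOf
open Limits Groth.Agent.CycB.StalkExact Groth.Agent.Fdesc.PullbackStalk K108.GenFib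

variable {X Y Z : Scheme.{u}}

theorem canAdd_surjective' (i : Z ⟶ X) (M : X.Modules) (z : Z)
    (hst : Function.Surjective (i.stalkMap z)) :
    Function.Surjective (canAdd i M z) := by
  intro t
  have ht : t ∈ Submodule.span (Z.presheaf.stalk z) (Set.range (canAdd i M z)) := by
    rw [span_range_canAdd]; trivial
  induction ht using Submodule.span_induction with
  | mem x hx => exact hx
  | zero => exact ⟨0, map_zero _⟩
  | add a b _ _ ha hb =>
    obtain ⟨a, rfl⟩ := ha
    obtain ⟨b, rfl⟩ := hb
    exact ⟨a + b, map_add _ _ _⟩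
  | smul r a _ ha =>
    obtain ⟨a, rfl⟩ := ha
    obtain ⟨r, rfl⟩ := hst r
    exact ⟨r • a, canAdd_smul _ M z r a⟩

/-- Version of `GenQuot.exists_quotient` for any `i : Z ⟶ X` which is a quasi-compact
quasi-separated topological embedding into the generic fibre, surjective on stalks. -/
theorem exists_quotient_of [IsIntegral Y]
    (hY : ∀ y : Y, IsRegularLocalRing (Y.presheaf.stalk y) ∧ ringKrullDim (Y.presheaf.stalk y) ≤ 1)
    (f : X ⟶ Y) (i : Z ⟶ X) [QuasiCompact i] [QuasiSeparated i]
    (hemb : Topology.IsInducing i) (hst : ∀ z, Function.Surjective (i.stalkMap z))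
    (hi : ∀ z, f (i z) = genericPoint Y)
    (F : X.Modules) (hF : Coh.IsQCoh F) (G' : Z.Modules) (hG' : Coh.IsQCoh G')
    (π : (Scheme.Modules.pullback i).obj F ⟶ G') [Epi π] :
    ∃ (G : X.Modules) (ρ : F ⟶ G) (e : (Scheme.Modules.pullback i).obj G ≅ G'),
        Epi ρ ∧ Coh.IsQCoh G ∧ FlatMod.IsFlatOver f G ∧
          (Scheme.Modules.pullback i).map ρ ≫ e.hom = π := by
  let τ : F ⟶ (Scheme.Modules.pushforward i).obj G' :=
    (Scheme.Modules.pullbackPushforwardAdjunction i).homEquiv F G' π
  have hq : Coh.IsQCoh ((Scheme.Modules.pushforward i).obj G') :=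
    Groth.Agent.Ega1.QcqsPush.isQCoh_pushforward i G' hG'
  let G : X.Modules := Abelian.coimage τ
  let ρ : F ⟶ G := Abelian.coimage.π τ
  let ι : G ⟶ (Scheme.Modules.pushforward i).obj G' := Abelian.factorThruCoimage τ
  have hfac : ρ ≫ ι = τ := Abelian.coimage.fac τ
  have hι : Mono ι := inferInstance
  have hρ : Epi ρ := inferInstance
  have hGq : Coh.IsQCoh G := Groth.Agent.PerfA.QCohSerre.isQCoh_cokernel _
    (Groth.Agent.PerfA.QCohSerre.isQCoh_kernel _ hF hq) hF
  let φ : (Scheme.Modules.pullback i).obj G ⟶ G' :=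
    ((Scheme.Modules.pullbackPushforwardAdjunction i).homEquiv G G').symm ι
  have hφ : (Scheme.Modules.pullback i).map ρ ≫ φ = π := by
    have h1 := (Scheme.Modules.pullbackPushforwardAdjunction i).homEquiv_naturality_left_symm ρ ι
    rw [hfac] at h1
    exact h1.symm.trans (Equiv.symm_apply_apply _ π)
  have hepi : Epi φ := by
    have : Epi ((Scheme.Modules.pullback i).map ρ ≫ φ) := by rw [hφ]; infer_instance
    exact epi_of_epi ((Scheme.Modules.pullback i).map ρ) φ
  have hmono : Mono φ := by
    apply Groth.Agent.Dcoh.StalkMod.mono_of_injective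
    intro z
    rw [injective_iff_map_eq_zero]
    intro t ht
    obtain ⟨t, rfl⟩ := canAdd_surjective' i G z (hst z) t
    have h1 := (stalkLin_homEquiv_symm i ι z t).symm.trans ht
    have h2 := pushAdd_injective i hemb G' z (h1.trans (map_zero _).symm)
    have h3 := stalkLin_injective ι (i.base z) (h2.trans (map_zero _).symm)
    rw [h3, map_zero]
  have : IsIso φ := isIso_of_mono_of_epi φ
  refine ⟨G, ρ, asIso φ, hρ, hGq, fun x => ?_, hφ⟩
  rw [isFlatOverAt_iff f G x (hY _)]
  intro a s ha has
  apply stalkLin_injective ι x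
  rw [map_zero]
  refine eq_zero_of_smul_push f i hi G' x a _ ha ?_
  rw [← map_smul, has, map_zero]

theorem stalk_dedekind (R : Type u) [CommRing R] [IsDedekindDomain R]
    (y : Spec (CommRingCat.of R)) :
    IsRegularLocalRing ((Spec (CommRingCat.of R)).presheaf.stalk y) ∧
      ringKrullDim ((Spec (CommRingCat.of R)).presheaf.stalk y) ≤ 1 := by
  let _ : Algebra R ((Spec (CommRingCat.of R)).presheaf.stalk y) :=
    StructureSheaf.stalkAlgebra (R := R) y
  have h1 : IsLocalization.AtPrime ((Spec (CommRingCat.of R)).presheaf.stalk y) y.asIdeal :=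
    StructureSheaf.IsLocalization.to_stalk R y
  have hle : y.asIdeal.primeCompl ≤ nonZeroDivisors R := y.asIdeal.primeCompl_le_nonZeroDivisors
  have h2 : IsDomain ((Spec (CommRingCat.of R)).presheaf.stalk y) :=
    IsLocalization.isDomain_of_le_nonZeroDivisors _ hle
  have h3 : IsDedekindDomain ((Spec (CommRingCat.of R)).presheaf.stalk y) :=
    IsLocalization.isDedekindDomain R hle _
  have h4 : IsPrincipalIdealRing ((Spec (CommRingCat.of R)).presheaf.stalk y) :=
    ((tfae_of_isNoetherianRing_of_isLocalRing_of_isDomain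
      ((Spec (CommRingCat.of R)).presheaf.stalk y)).out 2 0).mp h3
  exact ⟨inferInstance, (Ring.krullDimLE_iff).mp inferInstance⟩

end K108.GenQuotOf
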