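import Groth.Agent.Fdesc.GenTop
import Mathlib.AlgebraicGeometry.Properties
import Mathlib.AlgebraicGeometry.Stalk
import Mathlib.Topology.NoetherianSpace

/-!
# Integral neighbourhoods of points of schemes with integral local rings
-/

set_option autoImplicit false
open CategoryTheory AlgebraicGeometry TopologicalSpace
universe u

namespace K108.DomNhd
open Groth.Agent.Fdesc.GenTop

/-- If the local ring at `y` is a domain, there is a generization `ξ` of `y` which is a
generization of all generizations of `y`. -/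
theorem exists_generic_of_isDomain_stalk (Y : Scheme.{u}) (y : Y) [IsDomain (Y.presheaf.stalk y)] :
    ∃ ξ : Y, ξ ⤳ y ∧ ∀ η : Y, η ⤳ y → ξ ⤳ η := by
  let o : Spec (Y.presheaf.stalk y) := (⟨⊥, Ideal.isPrime_bot⟩ : PrimeSpectrum (Y.presheaf.stalk y))
  have h0 : ∀ p : Spec (Y.presheaf.stalk y), o ⤳ p := by
    intro p
    exact (PrimeSpectrum.le_iff_specializes _ _).mp bot_le
  have hr : Set.range (Y.fromSpecStalk y) = {y' | y' ⤳ y} := Y.range_fromSpecStalk
  refine ⟨Y.fromSpecStalk y o, ?_, ?_⟩
  · have : Y.fromSpecStalk y o ∈ Set.range (Y.fromSpecStalk y) := ⟨o, rfl⟩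
    rw [hr] at this
    exact this
  · intro η hη
    obtain ⟨p, rfl⟩ : η ∈ Set.range (Y.fromSpecStalk y) := by rw [hr]; exact hη
    exact (h0 p).map (Y.fromSpecStalk y).continuous

theorem isIntegral_nhd (Y : Scheme.{u}) (hd : ∀ y : Y, IsDomain (Y.presheaf.stalk y)) (y : Y)
    (U : Y.Opens) (hyU : y ∈ U) [NoetherianSpace {x // x ∈ U}] : ∃ V : Y.Opens, y ∈ V ∧ IsIntegral (V : Scheme.{u}) := by
  obtain ⟨ξ, hξ, hξ'⟩ := exists_generic_of_isDomain_stalk Y y
  let C : Set {x // x ∈ U} := ⋃₀ {T ∈ irreducibleComponents {x // x ∈ U} | (⟨y, hyU⟩ : {x // x ∈ U}) ∉ T}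
  have hC : IsClosed C := by
    rw [show C = ⋃ T ∈ {T ∈ irreducibleComponents {x // x ∈ U} | (⟨y, hyU⟩ : {x // x ∈ U}) ∉ T}, T from Set.sUnion_eq_biUnion]
    apply Set.Finite.isClosed_biUnion
    · exact NoetherianSpace.finite_irreducibleComponents.subset (Set.sep_subset _ _)
    · intro T hT
      exact isClosed_of_mem_irreducibleComponents T hT.1
  let V : Y.Opens := ⟨Subtype.val '' (Cᶜ : Set {x // x ∈ U}), U.2.isOpenMap_subtype_val _ hC.isOpen_compl⟩
  have hyV : y ∈ V := by
    refine ⟨⟨y, hyU⟩, ?_, rfl⟩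
    rintro ⟨T, hT, hyT⟩
    exact hT.2 hyT
  refine ⟨V, hyV, ?_⟩
  have : Nonempty V := ⟨⟨y, hyV⟩⟩
  have hred : IsReduced Y := by
    have : ∀ y : Y, _root_.IsReduced (Y.presheaf.stalk y) := fun y => by
      have := hd y
      infer_instance
    exact isReduced_of_isReduced_stalk Y
  have : QuasiSober {x // x ∈ U} := inferInstanceAs (QuasiSober (U : Scheme.{u}))
  have hirr : IrreducibleSpace (V : Scheme.{u}) := by
    apply irreducibleSpace_of_genericPoints
    have key : ∀ g ∈ genericPoints (V : Scheme.{u}), V.ι g = ξ := by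
      intro g hg
      have h1 := map_mem_genericPoints (V.ι.isOpenEmbedding.generalizingMap) hg
      have h2 : V.ι g ∈ V := g.2
      obtain ⟨u, hu, hug⟩ := h2
      have hu' : u ∈ genericPoints {x // x ∈ U} := by
        apply mem_genericPoints_of_map (f := (Subtype.val : {x // x ∈ U} → Y)) continuous_subtype_val
        · rw [hug]; exact h1
        · intro x' _ hx'
          exact Subtype.val_injective hx'
      have h3 : (⟨y, hyU⟩ : {x // x ∈ U}) ∈ closure {u} := by
        by_contra hcon
        exact hu ⟨closure {u}, ⟨hu', hcon⟩, subset_closure rfl⟩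
      have h4 : V.ι g ⤳ y := by
        rw [← hug]
        exact (specializes_iff_mem_closure.mpr h3).map continuous_subtype_val
      exact ((mem_genericPoints_iff.mp h1) ξ (hξ' _ h4)).symm
    intro a ha b hb
    apply V.ι.isOpenEmbedding.injective
    rw [key a ha, key b hb]
  exact isIntegral_of_irreducibleSpace_of_isReduced _

end K108.DomNhd
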