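import Groth.Agent.Dcoh.FTFP
import Groth.Agent.Dcoh.ResFree

/-!
# Finitely presented modules that are flat at a point are free near it

* `isFree_free` : finite free modules in the sense of Mathlib are `FlatMod.freeMod X n`.
* `nearFree_of_isFP` : `F` finitely presented, flat at `x`: `F` is finite free near `x`.
-/

set_option autoImplicit false
open CategoryTheory AlgebraicGeometry
universe u

namespace K108.FPFree

/-- A finite free module in the sense of Mathlib is `FlatMod.freeMod` up to isomorphism. -/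
theorem isFree_free {X : Scheme.{u}} (ι : Type u) [Finite ι] :
    Groth.Agent.Dcoh.Spread.IsFree (X := X) (SheafOfModules.free (R := X.ringCatSheaf) ι) := by
  obtain ⟨n, ⟨e⟩⟩ := Finite.exists_equiv_fin ι
  exact ⟨n, ⟨Limits.Sigma.reindex (C := X.Modules) e (fun _ : Fin n => Coh.structureModule X)⟩⟩

theorem nearFree_of_isFP {X : Scheme.{u}} (F : X.Modules) (hF : CohB1.IsFP F) (x : X)
    (h : FlatMod.IsFlatAt F x) :
    ∃ (W : Scheme.{u}) (j : W ⟶ X) (_ : IsOpenImmersion j) (n : ℕ), x ∈ Set.range j ∧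
      Nonempty (F.restrict j ≅ FlatMod.freeMod W n) := by
  obtain ⟨U, j, hj, hx, hU⟩ := (Groth.Agent.Dcoh.FTFP.isFP_iff' F).1 hF x
  have h1 := Groth.Agent.Dcoh.FTFP.GFP.restrict_range j hU
  have hx' : x ∈ j.opensRange := hx
  generalize j.opensRange = V at h1 hx'
  obtain ⟨P, hP⟩ := h1
  have : Finite P.generators.I := hP.isFiniteType_generators.finite
  have : Finite P.relations.I := hP.isFiniteType_relations.finite
  obtain ⟨n, W, k, hk, ⟨y, hy⟩, ⟨a⟩⟩ := Groth.Agent.Dcoh.Spread.nearIso_free_of_flatAt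
    (isFree_free P.relations.I) (isFree_free P.generators.I) _ _ _ P.isColimit
    (Groth.Agent.Dcoh.StalkRestrict.pt V hx')
    ((Groth.Agent.Dcoh.StalkRestrict.isFlatAt_restrict_pt_iff V hx' F).mpr h)
  refine ⟨W, k ≫ V.ι, inferInstance, n, ⟨y, ?_⟩, ⟨?_⟩⟩
  · rw [Scheme.Hom.comp_apply, hy]
    rfl
  · exact (Scheme.Modules.restrictFunctorComp k V.ι).app F ≪≫ a ≪≫
      Groth.Agent.Dcoh.LocalD.freeModRestrict k n

end K108.FPFree
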