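import Mathlib.RingTheory.Flat.FaithfullyFlat.Basic
import Mathlib.RingTheory.Flat.Stability
import Mathlib.RingTheory.RingHom.Flat
import Mathlib.RingTheory.RingHom.FaithfullyFlat
import Mathlib.RingTheory.LocalRing.ResidueField.Basic
import Mathlib.RingTheory.TensorProduct.Quotient

/-!
# Flatness and short exact sequences, towers

* `lTensor_injective_of_flat` : `0 → A → B → N → 0` exact with `N` flat stays exact after tensoring.
* `flat_iff_of_shortExact` : then `B` is flat iff `A` is flat.
-/

set_option autoImplicit false
set_option linter.style.haveILetI false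
open TensorProduct Function

namespace K108.FlatAlg2

section Exact

variable {R : Type*} [CommRing R] {A B N : Type*} [AddCommGroup A] [AddCommGroup B] [AddCommGroup N]
  [Module R A] [Module R B] [Module R N] (a : A →ₗ[R] B) (b : B →ₗ[R] N)

theorem lTensor_injective_of_flat_aux (ha : Injective a) (hab : Exact a b) (hb : Surjective b)
    [Module.Flat R N] {M K F : Type*} [AddCommGroup M] [Module R M] [AddCommGroup K] [Module R K]
    [AddCommGroup F] [Module R F] [Module.Flat R F] (i : K →ₗ[R] F) (p : F →ₗ[R] M)
    (hi : Injective i) (hip : Exact i p) (hp : Surjective p) : Injective (a.lTensor M) := by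
  rw [← LinearMap.ker_eq_bot, LinearMap.ker_eq_bot']
  intro m hm
  obtain ⟨x, rfl⟩ := LinearMap.rTensor_surjective A hp m
  have h1 : p.rTensor B (a.lTensor F x) = 0 := by
    rw [← LinearMap.comp_apply, LinearMap.rTensor_comp_lTensor, ← LinearMap.lTensor_comp_rTensor,
      LinearMap.comp_apply]
    exact hm
  obtain ⟨y, hy⟩ := (rTensor_exact B hip hp _).mp h1
  have h2 : i.rTensor N (b.lTensor _ y) = 0 := by
    rw [← LinearMap.comp_apply, LinearMap.rTensor_comp_lTensor, ← LinearMap.lTensor_comp_rTensor,
      LinearMap.comp_apply, hy, ← LinearMap.comp_apply, ← LinearMap.lTensor_comp,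
      hab.linearMap_comp_eq_zero, LinearMap.lTensor_zero, LinearMap.zero_apply]
  have h3 : b.lTensor _ y = 0 :=
    Module.Flat.rTensor_preserves_injective_linearMap (M := N) i hi (by rw [h2, map_zero])
  obtain ⟨z, hz⟩ := (lTensor_exact _ hab hb _).mp h3
  have h4 : a.lTensor F (i.rTensor A z) = a.lTensor F x := by
    rw [← hy, ← hz, ← LinearMap.comp_apply, LinearMap.lTensor_comp_rTensor,
      ← LinearMap.rTensor_comp_lTensor, LinearMap.comp_apply]
  have h5 := Module.Flat.lTensor_preserves_injective_linearMap (M := F) a ha h4
  rw [← h5, ← LinearMap.comp_apply, ← LinearMap.rTensor_comp, hip.linearMap_comp_eq_zero,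
    LinearMap.rTensor_zero, LinearMap.zero_apply]

/-- Tensoring `0 → A → B → N → 0` with anything is exact when `N` is flat. -/
theorem lTensor_injective_of_flat (ha : Injective a) (hab : Exact a b) (hb : Surjective b)
    [Module.Flat R N] (M : Type*) [AddCommGroup M] [Module R M] : Injective (a.lTensor M) :=
  lTensor_injective_of_flat_aux a b ha hab hb
    (K := LinearMap.ker (Finsupp.linearCombination R (id : M → M))) (F := M →₀ R)
    (Submodule.subtype _) (Finsupp.linearCombination R id) (Submodule.injective_subtype _)
    (LinearMap.exact_subtype_ker_map _) (Finsupp.linearCombination_id_surjective R M)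

/-- In a short exact sequence `0 → A → B → N → 0` with `N` flat, `B` is flat iff `A` is flat. -/
theorem flat_iff_of_shortExact (ha : Injective a) (hab : Exact a b) (hb : Surjective b)
    [Module.Flat R N] : Module.Flat R B ↔ Module.Flat R A := by
  constructor
  · intro h
    rw [Module.Flat.iff_rTensor_preserves_injective_linearMap]
    intro P Q _ _ _ _ u hu
    have h1 := Module.Flat.rTensor_preserves_injective_linearMap (M := B) u hu
    have h2 := lTensor_injective_of_flat a b ha hab hb P
    have h3 : Injective (u.rTensor B ∘ₗ a.lTensor P) := h1.comp h2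
    rw [LinearMap.rTensor_comp_lTensor, ← LinearMap.lTensor_comp_rTensor] at h3
    exact Injective.of_comp (f := a.lTensor Q) h3
  · intro h
    rw [Module.Flat.iff_rTensor_preserves_injective_linearMap]
    intro P Q _ _ _ _ u hu
    rw [← LinearMap.ker_eq_bot, LinearMap.ker_eq_bot']
    intro x hx
    have h1 : u.rTensor N (b.lTensor P x) = 0 := by
      rw [← LinearMap.comp_apply, LinearMap.rTensor_comp_lTensor, ← LinearMap.lTensor_comp_rTensor,
        LinearMap.comp_apply, hx, map_zero]
    have h2 : b.lTensor P x = 0 :=
      Module.Flat.rTensor_preserves_injective_linearMap (M := N) u hu (by rw [h1, map_zero])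
    obtain ⟨y, rfl⟩ := (lTensor_exact P hab hb _).mp h2
    have h3 : a.lTensor Q (u.rTensor A y) = 0 := by
      rw [← LinearMap.comp_apply, LinearMap.lTensor_comp_rTensor, ← LinearMap.rTensor_comp_lTensor,
        LinearMap.comp_apply, hx]
    have h4 : u.rTensor A y = 0 := lTensor_injective_of_flat a b ha hab hb Q (by rw [h3, map_zero])
    have h5 : y = 0 :=
      Module.Flat.rTensor_preserves_injective_linearMap (M := A) u hu (by rw [h4, map_zero])
    rw [h5, map_zero]

end Exact

section Tower

variable {A B : Type*} [CommRing A] [CommRing B] [Algebra A B]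

/-- If some faithfully flat `B`-module `M` is such that `M ⊗[B] N` is flat over `A`, then `N` is flat
over `A`. -/
theorem flat_of_flat_tensor {M N : Type*} [AddCommGroup M] [Module A M] [Module B M]
    [IsScalarTower A B M] [AddCommGroup N] [Module A N] [Module B N] [IsScalarTower A B N]
    [Module.FaithfullyFlat B M] (h : Module.Flat A (M ⊗[B] N)) : Module.Flat A N := by
  rw [Module.Flat.iff_lTensor_preserves_injective_linearMap]
  intro P Q _ _ _ _ u hu
  have h1 : Function.Injective (u.lTensor (M ⊗[B] N)) :=
    Module.Flat.lTensor_preserves_injective_linearMap (M := M ⊗[B] N) u hu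
  have h3 : ∀ x, u.lTensor (M ⊗[B] N) x =
      (AlgebraTensorModule.assoc A B B M N Q).symm
        ((AlgebraTensorModule.lTensor B N u).lTensor M (AlgebraTensorModule.assoc A B B M N P x)) := by
    intro x
    induction x with
    | zero => simp
    | add x y hx hy => simp only [map_add, hx, hy]
    | tmul x n =>
      induction x with
      | zero => simp
      | add x y hx hy => simp only [add_tmul, map_add, hx, hy]
      | tmul u w => simp
  have h2 : Function.Injective ((AlgebraTensorModule.lTensor B N u).lTensor M) := by
    intro x y hxy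
    apply (AlgebraTensorModule.assoc A B B M N P).symm.injective
    apply h1
    rw [h3, h3, LinearEquiv.apply_symm_apply, LinearEquiv.apply_symm_apply, hxy]
  exact (Module.FaithfullyFlat.lTensor_injective_iff_injective B M
    (AlgebraTensorModule.lTensor B N u)).mp h2

/-- If `M` is a faithfully flat `B`-module which is flat over `A`, then `B` is flat over `A`. -/
theorem flat_of_faithfullyFlat_module (M : Type*) [AddCommGroup M] [Module A M] [Module B M]
    [IsScalarTower A B M] [Module.FaithfullyFlat B M] [Module.Flat A M] : Module.Flat A B := by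
  refine flat_of_flat_tensor (A := A) (B := B) (M := M) (N := B) ?_
  exact Module.Flat.of_linearEquiv ((AlgebraTensorModule.rid B B M).restrictScalars A)

/-- The condition `I • N ≠ N` for a tensor product. -/
theorem smul_top_tensor_eq_top {M N : Type*} [AddCommGroup M] [Module A M] [Module B M]
    [IsScalarTower A B M] [AddCommGroup N] [Module A N] [Module B N] [IsScalarTower A B N]
    (I : Ideal A) (h : I • (⊤ : Submodule A N) = ⊤) : I • (⊤ : Submodule A (M ⊗[B] N)) = ⊤ := by
  rw [eq_top_iff]
  rintro x -
  induction x with
  | zero => exact Submodule.zero_mem _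
  | add x y hx hy => exact Submodule.add_mem _ hx hy
  | tmul m n =>
    have hn : n ∈ I • (⊤ : Submodule A N) := by rw [h]; trivial
    induction hn using Submodule.smul_induction_on' with
    | smul r hr n hn =>
      have : m ⊗ₜ[B] (r • n) = r • (m ⊗ₜ[B] n) := by
        rw [← algebraMap_smul B r n, TensorProduct.tmul_smul, algebraMap_smul]
      rw [this]
      exact Submodule.smul_mem_smul hr trivial
    | add x hx y hy h1 h2 => rw [TensorProduct.tmul_add]; exact Submodule.add_mem _ h1 h2

theorem smul_top_eq_top_of_tensor {M N : Type*} [AddCommGroup M] [Module A M] [Module B M]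
    [IsScalarTower A B M] [AddCommGroup N] [Module A N] [Module B N] [IsScalarTower A B N]
    [Module.FaithfullyFlat B M]
    (I : Ideal A) (h : I • (⊤ : Submodule A (M ⊗[B] N)) = ⊤) : I • (⊤ : Submodule A N) = ⊤ := by
  let T : Submodule B N := I.map (algebraMap A B) • ⊤
  have hT : T.restrictScalars A = I • (⊤ : Submodule A N) := by
    have := Ideal.smul_restrictScalars I (⊤ : Submodule B N)
    rw [Submodule.restrictScalars_top] at this
    exact this
  have hk : ∀ x ∈ I • (⊤ : Submodule A (M ⊗[B] N)), T.mkQ.lTensor M x = 0 := by
    intro x hx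
    induction hx using Submodule.smul_induction_on' with
    | smul r hr n hn =>
      induction n with
      | zero => simp
      | add x y hx hy => rw [smul_add, map_add, hx trivial, hy trivial, add_zero]
      | tmul m n =>
        have : r • (m ⊗ₜ[B] n) = m ⊗ₜ[B] (r • n) := by
          rw [← algebraMap_smul B r n, TensorProduct.tmul_smul, algebraMap_smul]
        rw [this, LinearMap.lTensor_tmul]
        have h0 : T.mkQ (r • n) = 0 := by
          rw [Submodule.mkQ_apply, Submodule.Quotient.mk_eq_zero]
          have : r • n ∈ T.restrictScalars A := by rw [hT]; exact Submodule.smul_mem_smul hr trivial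
          exact this
        rw [h0, TensorProduct.tmul_zero]
    | add x hx y hy h1 h2 => rw [map_add, h1, h2, add_zero]
  have h1 : Subsingleton (M ⊗[B] (N ⧸ T)) := by
    refine ⟨fun x y => ?_⟩
    obtain ⟨x, rfl⟩ := LinearMap.lTensor_surjective M T.mkQ_surjective x
    obtain ⟨y, rfl⟩ := LinearMap.lTensor_surjective M T.mkQ_surjective y
    rw [hk x (by rw [h]; trivial), hk y (by rw [h]; trivial)]
  have h2 : Subsingleton (N ⧸ T) :=
    (Module.FaithfullyFlat.subsingleton_tensorProduct_iff_right B M).mp h1
  rw [← hT, Submodule.Quotient.subsingleton_iff.mp h2, Submodule.restrictScalars_top]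

/-- For a faithfully flat `B`-module `M`: `I • (M ⊗ N) ≠ M ⊗ N` iff `I • N ≠ N`. -/
theorem smul_top_tensor_ne_top_iff {M N : Type*} [AddCommGroup M] [Module A M] [Module B M]
    [IsScalarTower A B M] [AddCommGroup N] [Module A N] [Module B N] [IsScalarTower A B N]
    [Module.FaithfullyFlat B M] (I : Ideal A) :
    I • (⊤ : Submodule A (M ⊗[B] N)) ≠ ⊤ ↔ I • (⊤ : Submodule A N) ≠ ⊤ :=
  not_congr ⟨smul_top_eq_top_of_tensor I, smul_top_tensor_eq_top I⟩

/-- A flat module `M` over a local ring with `𝔪 M ≠ M` is faithfully flat. -/
theorem faithfullyFlat_of_smul_top_ne_top [IsLocalRing A] {M : Type*} [AddCommGroup M] [Module A M]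
    [Module.Flat A M] (h : IsLocalRing.maximalIdeal A • (⊤ : Submodule A M) ≠ ⊤) :
    Module.FaithfullyFlat A M := by
  refine ⟨fun m hm h' => ?_⟩
  obtain rfl := IsLocalRing.eq_maximalIdeal hm
  exact h h'

end Tower

/-- In a tower of local rings, `𝔪_A N = N` implies `𝔪_B N = N`. -/
theorem smul_top_eq_top_of_tower {A B N : Type*} [CommRing A] [CommRing B] [IsLocalRing A]
    [IsLocalRing B] [Algebra A B] [IsLocalHom (algebraMap A B)] [AddCommGroup N] [Module A N]
    [Module B N] [IsScalarTower A B N]
    (h : IsLocalRing.maximalIdeal A • (⊤ : Submodule A N) = ⊤) :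
    IsLocalRing.maximalIdeal B • (⊤ : Submodule B N) = ⊤ := by
  have h2 : (⊤ : Submodule A N) ≤
      (IsLocalRing.maximalIdeal B • (⊤ : Submodule B N)).restrictScalars A := by
    refine h.ge.trans ?_
    rw [Submodule.smul_le]
    intro r hr n _
    have h3 : (algebraMap A B r) ∈ IsLocalRing.maximalIdeal B := by
      rw [IsLocalRing.mem_maximalIdeal] at hr ⊢
      exact (map_mem_nonunits_iff (algebraMap A B) r).mpr hr
    rw [← algebraMap_smul B r n, Submodule.restrictScalars_mem]
    exact Submodule.smul_mem_smul h3 Submodule.mem_top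
  rw [eq_top_iff]
  intro n _
  exact h2 trivial

/-- Composition of ring homs: if `ψ` is faithfully flat, then `ψ ∘ φ` is flat iff `φ` is flat. -/
theorem comp_flat_iff {A B C : Type*} [CommRing A] [CommRing B] [CommRing C] (φ : A →+* B)
    (ψ : B →+* C) (h : ψ.FaithfullyFlat) : (ψ.comp φ).Flat ↔ φ.Flat := by
  letI := φ.toAlgebra
  letI := ψ.toAlgebra
  letI := (ψ.comp φ).toAlgebra
  haveI : IsScalarTower A B C := IsScalarTower.of_algebraMap_eq fun _ => rfl
  haveI : Module.FaithfullyFlat B C := h
  constructor
  · intro h1
    haveI : Module.Flat A C := h1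
    exact flat_of_faithfullyFlat_module (A := A) (B := B) C
  · intro h1
    haveI : Module.Flat A B := h1
    exact Module.Flat.trans A B C

end K108.FlatAlg2
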