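import Groth.Agent.FDesc.K108.FlatMods
import Groth.Agent.CycB.StalkExact

/-!
# The fibre condition `𝔪_{f x} F_x ≠ F_x`

* `ff_fiber_iff` : it holds at the image of a point `z` of the fibre iff the stalk at `z` of the
  restriction of `F` to the fibre is nonzero.
* `ff_pullback` : it is stable under base change.
* `ff_tensor_iff` : the condition for `F ⊗ f^* E` over `Z`.
-/

set_option autoImplicit false
set_option linter.style.haveILetI false
open CategoryTheory AlgebraicGeometry TopologicalSpace TensorProduct IsLocalRing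
universe u

namespace K108.FlatFib
open K108.FlatAlg2 K108.FlatMods Groth.Agent.Fdesc.PullbackStalk Groth.Agent.Fdesc.AssFlat
open Groth.Agent.CycB.StalkExact

variable {X Y Z : Scheme.{u}}

/-- The condition `𝔪_{f x} F_x ≠ F_x`. -/
def FF (f : X ⟶ Y) (F : X.Modules) (x : X) : Prop :=
  letI := FlatMod.moduleStalkOver f F x
  IsLocalRing.maximalIdeal (Y.presheaf.stalk (f x)) •
    (⊤ : Submodule (Y.presheaf.stalk (f x)) (F.presheaf.stalk x)) ≠ ⊤

theorem ff_iff_quot (f : X ⟶ Y) (F : X.Modules) (x : X) :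
    FF f F x ↔ Nontrivial (F.presheaf.stalk x ⧸
      (maximalIdeal (Y.presheaf.stalk (f x))).map (f.stalkMap x).hom •
      (⊤ : Submodule (X.presheaf.stalk x) (F.presheaf.stalk x))) := by
  letI := stalkAlg f x
  letI := FlatMod.moduleStalkOver f F x
  haveI := isScalarTower f F x
  rw [Submodule.Quotient.nontrivial_iff]
  have h := Ideal.smul_restrictScalars (S := X.presheaf.stalk x)
    (maximalIdeal (Y.presheaf.stalk (f x)))
    (⊤ : Submodule (X.presheaf.stalk x) (F.presheaf.stalk x))
  rw [Submodule.restrictScalars_top] at h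
  refine not_congr ?_
  change maximalIdeal (Y.presheaf.stalk (f.base x)) •
    (⊤ : Submodule (Y.presheaf.stalk (f.base x)) (F.presheaf.stalk x)) = ⊤ ↔ _
  rw [← h, Submodule.restrictScalars_eq_top_iff]
  rfl

theorem ff_fiber_iff (f : X ⟶ Y) (F : X.Modules) (y : Y) (z : f.fiber y) :
    FF f F (f.fiberι y z) ↔
      Nontrivial (((Scheme.Modules.pullback (f.fiberι y)).obj F).presheaf.stalk z) := by
  rw [ff_iff_quot]
  letI := stalkAlg (f.fiberι y) z
  letI := FlatMod.moduleStalkOver (f.fiberι y) ((Scheme.Modules.pullback (f.fiberι y)).obj F) z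
  haveI := isScalarTower (f.fiberι y) ((Scheme.Modules.pullback (f.fiberι y)).obj F) z
  exact (fiberStalkEquiv f F y z).toEquiv.nontrivial_congr.symm

theorem nontrivial_stalk_pullback_of_flat {P : Scheme.{u}} (b : P ⟶ X) [Flat b] (M : X.Modules)
    (z : P) (h : Nontrivial (M.presheaf.stalk (b z))) :
    Nontrivial (((Scheme.Modules.pullback b).obj M).presheaf.stalk z) :=
  (Groth.Agent.Fdesc.StalkExt.canAdd_injective b M z).nontrivial

theorem nontrivial_stalk_of_pullback {P : Scheme.{u}} (b : P ⟶ X) (M : X.Modules)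
    (z : P) (h : Nontrivial (((Scheme.Modules.pullback b).obj M).presheaf.stalk z)) :
    Nontrivial (M.presheaf.stalk (b z)) := by
  letI := stalkAlg b z
  by_contra hcon
  rw [not_nontrivial_iff_subsingleton] at hcon
  have h1 : Subsingleton (P.presheaf.stalk z ⊗[X.presheaf.stalk (b.base z)]
      M.presheaf.stalk (b.base z)) := inferInstance
  have h2 := (stalkPullbackEquiv b M z).symm.toEquiv.subsingleton
  exact not_subsingleton _ h2

/-- The condition `𝔪_{f x} F_x ≠ F_x` is stable under base change, and descends. -/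
theorem ff_pullback_iff {P X Y Y' : Scheme.{u}} {f : X ⟶ Y} {g : Y' ⟶ Y} {p : P ⟶ X} {q : P ⟶ Y'}
    (H : IsPullback p q f g) (M : X.Modules) (z : P) :
    FF q ((Scheme.Modules.pullback p).obj M) z ↔ FF f M (p z) := by
  have hz : q.fiberι (q z) (q.asFiber z) = z := q.fiberι_asFiber z
  have h1 : FF q ((Scheme.Modules.pullback p).obj M) (q.fiberι (q z) (q.asFiber z)) ↔
      FF q ((Scheme.Modules.pullback p).obj M) z := by rw [hz]
  rw [← h1, ff_fiber_iff]
  have H2 := isPullback_fiberToSpecResidueField_of_isPullback H (q z)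
  obtain ⟨b, hbflat, hbι⟩ : ∃ b : q.fiber (q z) ⟶ f.fiber (g (q z)),
      Flat b ∧ b ≫ f.fiberι (g (q z)) = q.fiberι (q z) ≫ p :=
    ⟨_, MorphismProperty.of_isPullback (P := @Flat) H2.flip inferInstance,
      Limits.pullback.lift_fst _ _ _⟩
  have h2 : f.fiberι (g (q z)) (b (q.asFiber z)) = p z := by
    rw [← Scheme.Hom.comp_apply, hbι, Scheme.Hom.comp_apply, hz]
  have h3 : FF f M (f.fiberι (g (q z)) (b (q.asFiber z))) ↔ FF f M (p z) := by rw [h2]
  rw [← h3, ff_fiber_iff]
  let e : (Scheme.Modules.pullback (q.fiberι (q z))).obj ((Scheme.Modules.pullback p).obj M) ≅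
      (Scheme.Modules.pullback b).obj ((Scheme.Modules.pullback (f.fiberι (g (q z)))).obj M) :=
    (Scheme.Modules.pullbackComp _ _).app M ≪≫ (Scheme.Modules.pullbackCongr hbι.symm).app M ≪≫
      ((Scheme.Modules.pullbackComp _ _).app M).symm
  rw [(stalkLinEquiv e (q.asFiber z)).toEquiv.nontrivial_congr]
  exact ⟨nontrivial_stalk_of_pullback b _ _, nontrivial_stalk_pullback_of_flat b _ _⟩

theorem faithfullyFlat_of_ff (f : X ⟶ Y) (F : X.Modules) (x : X) (h : FlatMod.IsFlatOverAt f F x)
    (h' : FF f F x) :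
    letI := FlatMod.moduleStalkOver f F x
    Module.FaithfullyFlat (Y.presheaf.stalk (f.base x)) (F.presheaf.stalk x) := by
  letI := FlatMod.moduleStalkOver f F x
  haveI : Module.Flat (Y.presheaf.stalk (f.base x)) (F.presheaf.stalk x) := h
  exact faithfullyFlat_of_smul_top_ne_top h'

/-- `F` flat over `Y` at `x` and `E` flat over `Z` at `f x` gives `F ⊗ f^* E` flat over `Z`. -/
theorem isFlatOverAt_tensor (f : X ⟶ Y) (g : Y ⟶ Z) (E : Y.Modules) (F : X.Modules) (x : X)
    (hF : FlatMod.IsFlatOverAt f F x) (hE : FlatMod.IsFlatOverAt g E (f x)) :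
    FlatMod.IsFlatOverAt (f ≫ g)
      (CohB1.tensorMod F ((Scheme.Modules.pullback f).obj E)) x := by
  letI := stalkAlg f x
  letI := stalkAlg g (f.base x)
  letI := FlatMod.moduleStalkOver f F x
  letI := FlatMod.moduleStalkOver g E (f.base x)
  letI := modZ f g F x
  haveI := towerY f g F x
  haveI := isScalarTower g E (f.base x)
  letI := modZ f g (CohB1.tensorMod F ((Scheme.Modules.pullback f).obj E)) x
  haveI : Module.Flat (Y.presheaf.stalk (f.base x)) (F.presheaf.stalk x) := hF
  haveI : Module.Flat (Z.presheaf.stalk (g.base (f.base x))) (E.presheaf.stalk (f.base x)) := hE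
  have h1 : Module.Flat (Z.presheaf.stalk (g.base (f.base x)))
      ((F.presheaf.stalk x) ⊗[Y.presheaf.stalk (f.base x)] (E.presheaf.stalk (f.base x))) :=
    Groth.Agent.Fdesc.FlatAlg.flat_tensor_of_flat
  have h2 : Module.Flat (Z.presheaf.stalk (g.base (f.base x)))
      ((CohB1.tensorMod F ((Scheme.Modules.pullback f).obj E)).presheaf.stalk x) :=
    Module.Flat.of_linearEquiv (tensorStalkEquivZ f g E F x)
  exact h2

/-- Conversely, if `F` is faithfully flat at `x`. -/
theorem isFlatOverAt_of_tensor (f : X ⟶ Y) (g : Y ⟶ Z) (E : Y.Modules) (F : X.Modules) (x : X)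
    (hF : FlatMod.IsFlatOverAt f F x) (hFF : FF f F x)
    (h : FlatMod.IsFlatOverAt (f ≫ g)
      (CohB1.tensorMod F ((Scheme.Modules.pullback f).obj E)) x) :
    FlatMod.IsFlatOverAt g E (f x) := by
  letI := stalkAlg f x
  letI := stalkAlg g (f.base x)
  letI := FlatMod.moduleStalkOver f F x
  letI := FlatMod.moduleStalkOver g E (f.base x)
  letI := modZ f g F x
  haveI := towerY f g F x
  haveI := isScalarTower g E (f.base x)
  letI := modZ f g (CohB1.tensorMod F ((Scheme.Modules.pullback f).obj E)) x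
  haveI : Module.FaithfullyFlat (Y.presheaf.stalk (f.base x)) (F.presheaf.stalk x) :=
    faithfullyFlat_of_ff f F x hF hFF
  have h2 : Module.Flat (Z.presheaf.stalk (g.base (f.base x)))
      ((CohB1.tensorMod F ((Scheme.Modules.pullback f).obj E)).presheaf.stalk x) := h
  have h1 : Module.Flat (Z.presheaf.stalk (g.base (f.base x)))
      ((F.presheaf.stalk x) ⊗[Y.presheaf.stalk (f.base x)] (E.presheaf.stalk (f.base x))) :=
    Module.Flat.of_linearEquiv (tensorStalkEquivZ f g E F x).symm
  exact flat_of_flat_tensor (B := Y.presheaf.stalk (f.base x)) (M := F.presheaf.stalk x) h1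

/-- `I • ⊤ = ⊤` is invariant under linear equivalence. -/
theorem smul_top_eq_top_congr {R M N : Type*} [CommRing R] [AddCommGroup M] [Module R M]
    [AddCommGroup N] [Module R N] (e : M ≃ₗ[R] N) (I : Ideal R) :
    I • (⊤ : Submodule R M) = ⊤ ↔ I • (⊤ : Submodule R N) = ⊤ := by
  have h : Submodule.map e.toLinearMap (I • (⊤ : Submodule R M)) = I • ⊤ := by
    rw [Submodule.map_smul'', Submodule.map_top, LinearEquiv.range]
  constructor
  · intro h1
    rw [← h, h1, Submodule.map_top, LinearEquiv.range]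
  · intro h1
    rw [h1] at h
    apply Submodule.map_injective_of_injective (f := e.toLinearMap) e.injective
    rw [h, Submodule.map_top, LinearEquiv.range]

theorem ff_of_tensor (f : X ⟶ Y) (g : Y ⟶ Z) (E : Y.Modules) (F : X.Modules) (x : X)
    (h : FF (f ≫ g) (CohB1.tensorMod F ((Scheme.Modules.pullback f).obj E)) x) :
    FF g E (f x) := by
  letI := stalkAlg f x
  letI := stalkAlg g (f.base x)
  letI := FlatMod.moduleStalkOver f F x
  letI := FlatMod.moduleStalkOver g E (f.base x)
  letI := modZ f g F x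
  haveI := towerY f g F x
  haveI := isScalarTower g E (f.base x)
  letI := modZ f g (CohB1.tensorMod F ((Scheme.Modules.pullback f).obj E)) x
  intro h1
  apply h
  exact (smul_top_eq_top_congr (tensorStalkEquivZ f g E F x) (maximalIdeal _)).mpr
    (smul_top_tensor_eq_top _ h1)

theorem ff_tensor (f : X ⟶ Y) (g : Y ⟶ Z) (E : Y.Modules) (F : X.Modules) (x : X)
    (hF : FlatMod.IsFlatOverAt f F x) (hFF : FF f F x) (hE : FF g E (f x)) :
    FF (f ≫ g) (CohB1.tensorMod F ((Scheme.Modules.pullback f).obj E)) x := by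
  letI := stalkAlg f x
  letI := stalkAlg g (f.base x)
  letI := FlatMod.moduleStalkOver f F x
  letI := FlatMod.moduleStalkOver g E (f.base x)
  letI := modZ f g F x
  haveI := towerY f g F x
  haveI := isScalarTower g E (f.base x)
  letI := modZ f g (CohB1.tensorMod F ((Scheme.Modules.pullback f).obj E)) x
  haveI : Module.FaithfullyFlat (Y.presheaf.stalk (f.base x)) (F.presheaf.stalk x) :=
    faithfullyFlat_of_ff f F x hF hFF
  intro h1
  apply hE
  exact smul_top_eq_top_of_tensor (B := Y.presheaf.stalk (f.base x)) (M := F.presheaf.stalk x) _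
    ((smul_top_eq_top_congr (tensorStalkEquivZ f g E F x) (maximalIdeal _)).mp h1)

end K108.FlatFib
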