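import Groth.Agent.FDesc.K108.FlatAlg2
import Groth.Agent.Fdesc.AssFlat
import Groth.Agent.Fdesc.FlatBC

/-!
# Modules flat over a base and fibres

* `isFlatOverAt_comp_iff` : flatness over `Z` of `M` in a tower `X → Y → Z`, as a module statement.
* `ff_iff_nontrivial` : `𝔪_{f x} F_x ≠ F_x` iff the stalk at `x` of the restriction of `F` to the
  fibre is nonzero.
* `tensorStalkEquiv` : the stalk of `F ⊗ f^* E` at `x` is `F_x ⊗ E_{f x}`.
-/

set_option autoImplicit false
set_option linter.style.haveILetI false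
open CategoryTheory AlgebraicGeometry TopologicalSpace TensorProduct IsLocalRing
universe u

namespace K108.FlatMods
open K108.FlatAlg2 Groth.Agent.Fdesc.PullbackStalk Groth.Agent.Fdesc.AssFlat

variable {X Y Z : Scheme.{u}}

/-- `O_{Z, g (f x)}`-module structure on the stalk at `x` of an `O_X`-module. -/
noncomputable abbrev modZ (f : X ⟶ Y) (g : Y ⟶ Z) (M : X.Modules) (x : X) :
    Module (Z.presheaf.stalk (g.base (f.base x))) (M.presheaf.stalk x) :=
  FlatMod.moduleStalkOver (f ≫ g) M x

theorem towerX (f : X ⟶ Y) (g : Y ⟶ Z) (M : X.Modules) (x : X) :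
    letI : Algebra (Z.presheaf.stalk (g.base (f.base x))) (X.presheaf.stalk x) :=
      (g.stalkMap (f x) ≫ f.stalkMap x).hom.toAlgebra
    letI := modZ f g M x
    IsScalarTower (Z.presheaf.stalk (g.base (f.base x))) (X.presheaf.stalk x)
      (M.presheaf.stalk x) := by
  letI : Algebra (Z.presheaf.stalk (g.base (f.base x))) (X.presheaf.stalk x) :=
    (g.stalkMap (f x) ≫ f.stalkMap x).hom.toAlgebra
  letI := modZ f g M x
  refine ⟨fun r a m => ?_⟩
  rw [Algebra.smul_def, mul_smul]
  change _ = ((f ≫ g).stalkMap x).hom r • a • m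
  rw [Scheme.Hom.stalkMap_comp]
  rfl

theorem towerY (f : X ⟶ Y) (g : Y ⟶ Z) (M : X.Modules) (x : X) :
    letI := stalkAlg g (f.base x)
    letI := FlatMod.moduleStalkOver f M x
    letI := modZ f g M x
    IsScalarTower (Z.presheaf.stalk (g.base (f.base x))) (Y.presheaf.stalk (f.base x))
      (M.presheaf.stalk x) := by
  letI := stalkAlg g (f.base x)
  letI := FlatMod.moduleStalkOver f M x
  letI := modZ f g M x
  refine ⟨fun r a m => ?_⟩
  rw [Algebra.smul_def, mul_smul]
  change _ = ((f ≫ g).stalkMap x).hom r • (f.stalkMap x).hom a • m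
  rw [Scheme.Hom.stalkMap_comp]
  rfl

/-- The stalk at `x` of `F ⊗ f^* E` is `F_x ⊗ E_{f x}`, linear over `O_{X,x}`. -/
noncomputable def tensorStalkEquiv (f : X ⟶ Y) (E : Y.Modules) (F : X.Modules) (x : X) :
    letI := stalkAlg f x
    letI := FlatMod.moduleStalkOver f F x
    haveI := isScalarTower f F x
    (CohB1.tensorMod F ((Scheme.Modules.pullback f).obj E)).presheaf.stalk x
      ≃ₗ[X.presheaf.stalk x]
      (F.presheaf.stalk x) ⊗[Y.presheaf.stalk (f.base x)] (E.presheaf.stalk (f.base x)) :=
  letI := stalkAlg f x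
  letI := FlatMod.moduleStalkOver f F x
  haveI := isScalarTower f F x
  (tensorModStalk F _ x).trans
    ((TensorProduct.congr (LinearEquiv.refl _ _) (stalkPullbackEquiv f E x).symm).trans
      (AlgebraTensorModule.cancelBaseChange _ _ _ _ _))

/-- The stalk at `x` of `F ⊗ f^* E` is `F_x ⊗ E_{f x}`, linear over `O_{Z, g (f x)}`. -/
noncomputable def tensorStalkEquivZ (f : X ⟶ Y) (g : Y ⟶ Z) (E : Y.Modules) (F : X.Modules)
    (x : X) :
    letI := stalkAlg f x
    letI := stalkAlg g (f.base x)
    letI := FlatMod.moduleStalkOver f F x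
    letI := FlatMod.moduleStalkOver g E (f.base x)
    letI := modZ f g F x
    haveI := towerY f g F x
    haveI := isScalarTower g E (f.base x)
    letI := modZ f g (CohB1.tensorMod F ((Scheme.Modules.pullback f).obj E)) x
    (CohB1.tensorMod F ((Scheme.Modules.pullback f).obj E)).presheaf.stalk x
      ≃ₗ[Z.presheaf.stalk (g.base (f.base x))]
      (F.presheaf.stalk x) ⊗[Y.presheaf.stalk (f.base x)] (E.presheaf.stalk (f.base x)) :=
  letI := stalkAlg f x
  letI := stalkAlg g (f.base x)
  letI : Algebra (Z.presheaf.stalk (g.base (f.base x))) (X.presheaf.stalk x) :=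
    (g.stalkMap (f x) ≫ f.stalkMap x).hom.toAlgebra
  letI := FlatMod.moduleStalkOver f F x
  haveI := isScalarTower f F x
  letI := FlatMod.moduleStalkOver g E (f.base x)
  letI := modZ f g F x
  haveI := towerX f g F x
  haveI := towerY f g F x
  haveI := isScalarTower g E (f.base x)
  letI := modZ f g (CohB1.tensorMod F ((Scheme.Modules.pullback f).obj E)) x
  haveI := towerX f g (CohB1.tensorMod F ((Scheme.Modules.pullback f).obj E)) x
  (tensorStalkEquiv f E F x).restrictScalars (Z.presheaf.stalk (g.base (f.base x)))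

end K108.FlatMods
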