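import Groth.Agent.FDesc.K108.GenFib
import Groth.Agent.Dcoh.StalkMod
import Groth.Agent.PerfA.QCohSerre

/-!
# Flat quotients with given generic fibre

* `exists_quotient` : over an integral base whose local rings are regular of dimension at most one,
  a quotient of `i^* F` on the generic fibre extends to a flat quasi-coherent quotient of `F`.
* `ker_le` : its kernel is determined by the quotient on the generic fibre.
* `exists_hom_of_ker_le`, `exists_iso_of_ker_le` : factoring through an epimorphism, on stalks.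
-/

set_option autoImplicit false
open CategoryTheory AlgebraicGeometry
universe u

namespace K108.GenQuot
open Limits Groth.Agent.CycB.StalkExact Groth.Agent.Fdesc.PullbackStalk K108.GenFib

variable {X Y : Scheme.{u}} [IsIntegral Y]

theorem exists_quotient (hY : ∀ y : Y, IsRegularLocalRing (Y.presheaf.stalk y) ∧ ringKrullDim (Y.presheaf.stalk y) ≤ 1)
    (f : X ⟶ Y) (F : X.Modules) (hF : Coh.IsQCoh F) (G' : (f.fiber (genericPoint Y)).Modules) (hG' : Coh.IsQCoh G')
    (π : (Scheme.Modules.pullback (f.fiberι (genericPoint Y))).obj F ⟶ G') [Epi π] :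
    ∃ (G : X.Modules) (ρ : F ⟶ G) (e : (Scheme.Modules.pullback (f.fiberι (genericPoint Y))).obj G ≅ G'),
        Epi ρ ∧ Coh.IsQCoh G ∧ FlatMod.IsFlatOver f G ∧
          (Scheme.Modules.pullback (f.fiberι (genericPoint Y))).map ρ ≫ e.hom = π := by
  let i := f.fiberι (genericPoint Y)
  have hi : ∀ z, f (i z) = genericPoint Y := Groth.Agent.CycB.FiberKer.apply_fiberι f _
  let τ : F ⟶ (Scheme.Modules.pushforward i).obj G' :=
    (Scheme.Modules.pullbackPushforwardAdjunction i).homEquiv F G' π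
  have hq : Coh.IsQCoh ((Scheme.Modules.pushforward i).obj G') :=
    Groth.Agent.Ega1.QcqsPush.isQCoh_pushforward i G' hG'
  let G : X.Modules := Abelian.coimage τ
  let ρ : F ⟶ G := Abelian.coimage.π τ
  let ι : G ⟶ (Scheme.Modules.pushforward i).obj G' := Abelian.factorThruCoimage τ
  have hfac : ρ ≫ ι = τ := Abelian.coimage.fac τ
  have hι : Mono ι := inferInstance
  have hρ : Epi ρ := inferInstance
  have hGq : Coh.IsQCoh G := Groth.Agent.PerfA.QCohSerre.isQCoh_cokernel _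
    (Groth.Agent.PerfA.QCohSerre.isQCoh_kernel _ hF hq) hF
  let φ : (Scheme.Modules.pullback i).obj G ⟶ G' :=
    ((Scheme.Modules.pullbackPushforwardAdjunction i).homEquiv G G').symm ι
  have hφ : (Scheme.Modules.pullback i).map ρ ≫ φ = π := by
    have h1 := (Scheme.Modules.pullbackPushforwardAdjunction i).homEquiv_naturality_left_symm ρ ι
    rw [hfac] at h1
    exact h1.symm.trans (Equiv.symm_apply_apply _ π)
  have hepi : Epi φ := by
    have : Epi ((Scheme.Modules.pullback i).map ρ ≫ φ) := by rw [hφ]; infer_instance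
    exact epi_of_epi ((Scheme.Modules.pullback i).map ρ) φ
  have hmono : Mono φ := by
    apply Groth.Agent.Dcoh.StalkMod.mono_of_injective
    intro z
    rw [injective_iff_map_eq_zero]
    intro t ht
    obtain ⟨t, rfl⟩ := canAdd_surjective f G z t
    have h1 := (stalkLin_homEquiv_symm i ι z t).symm.trans ht
    have h2 := pushAdd_injective i i.isEmbedding.isInducing G' z (h1.trans (map_zero _).symm)
    have h3 := stalkLin_injective ι (i.base z) (h2.trans (map_zero _).symm)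
    rw [h3, map_zero]
  have : IsIso φ := isIso_of_mono_of_epi φ
  refine ⟨G, ρ, asIso φ, hρ, hGq, fun x => ?_, hφ⟩
  rw [isFlatOverAt_iff f G x (hY _)]
  intro a s ha has
  apply stalkLin_injective ι x
  rw [map_zero]
  refine eq_zero_of_smul_push f i hi G' x a _ ha ?_
  rw [← map_smul, has, map_zero]

theorem ker_le (hY : ∀ y : Y, IsRegularLocalRing (Y.presheaf.stalk y) ∧ ringKrullDim (Y.presheaf.stalk y) ≤ 1)
    (f : X ⟶ Y) (F : X.Modules) (G' : (f.fiber (genericPoint Y)).Modules)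
    (π : (Scheme.Modules.pullback (f.fiberι (genericPoint Y))).obj F ⟶ G') (G₁ G₂ : X.Modules)
    (ρ₁ : F ⟶ G₁) (ρ₂ : F ⟶ G₂)
    (e₁ : (Scheme.Modules.pullback (f.fiberι (genericPoint Y))).obj G₁ ≅ G')
    (e₂ : (Scheme.Modules.pullback (f.fiberι (genericPoint Y))).obj G₂ ≅ G')
    (hq₂ : Coh.IsQCoh G₂) (hf₂ : FlatMod.IsFlatOver f G₂)
    (h₁ : (Scheme.Modules.pullback (f.fiberι (genericPoint Y))).map ρ₁ ≫ e₁.hom = π)
    (h₂ : (Scheme.Modules.pullback (f.fiberι (genericPoint Y))).map ρ₂ ≫ e₂.hom = π) (x : X)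
    (s : F.presheaf.stalk x) (hs : stalkLin ρ₁ x s = 0) : stalkLin ρ₂ x s = 0 := by
  refine eq_zero_of_generic f G₂ hq₂ x ((isFlatOverAt_iff f G₂ x (hY _)).mp (hf₂ x)) _ ?_
  intro ξ hξ hfξ
  obtain ⟨z, rfl⟩ := Groth.Agent.CycB.FiberKer.exists_fiberι_eq f _ ξ hfξ
  rw [← stalkLin_stalkSpecializes]
  have hs' : stalkLin ρ₁ (f.fiberι (genericPoint Y) z) (F.presheaf.stalkSpecializes hξ s) = 0 := by
    rw [stalkLin_stalkSpecializes, hs, map_zero]
  generalize F.presheaf.stalkSpecializes hξ s = t at hs'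
  apply (canAdd_bijective f G₂ z).1
  rw [map_zero]
  have key : ∀ (G : X.Modules) (ρ : F ⟶ G)
    (e : (Scheme.Modules.pullback (f.fiberι (genericPoint Y))).obj G ≅ G'),
    (Scheme.Modules.pullback (f.fiberι (genericPoint Y))).map ρ ≫ e.hom = π →
    (canAdd (f.fiberι (genericPoint Y)) G z (stalkLin ρ (f.fiberι (genericPoint Y) z) t) = 0 ↔
      stalkLin π z (canAdd (f.fiberι (genericPoint Y)) F z t) = 0) := by
    intro G ρ e h
    have h3 := stalkMap_pullback_canAdd (f.fiberι (genericPoint Y)) ρ z t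
    rw [← h, stalkLin_comp, LinearMap.comp_apply]
    rw [stalkLin_eq_stalkMap ((Scheme.Modules.pullback (f.fiberι (genericPoint Y))).map ρ)]
    rw [h3]
    rw [← stalkLin_eq_stalkMap ρ]
    have h4 := (stalkLinEquiv e z).injective
    have h5 : ∀ w, stalkLin e.hom z w = 0 ↔ w = 0 := fun w =>
      ⟨fun hw => h4 (hw.trans (map_zero _).symm), fun hw => by rw [hw, map_zero]⟩
    exact (h5 _).symm
  rw [key G₂ ρ₂ e₂ h₂, ← key G₁ ρ₁ e₁ h₁, hs', map_zero]

theorem exists_hom_of_ker_le {X : Scheme.{u}} {F G₁ G₂ : X.Modules} (ρ₁ : F ⟶ G₁) (ρ₂ : F ⟶ G₂) [Epi ρ₁]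
    (h : ∀ (x : X) (s : F.presheaf.stalk x), stalkLin ρ₁ x s = 0 → stalkLin ρ₂ x s = 0) :
    ∃ e : G₁ ⟶ G₂, ρ₁ ≫ e = ρ₂ := by
  have h0 : kernel.ι ρ₁ ≫ ρ₂ = 0 := by
    apply Groth.Agent.Fdesc.StalkExt.hom_ext_stalk
    intro x t
    rw [← stalkLin_eq_stalkMap, ← stalkLin_eq_stalkMap, Groth.Agent.Dcoh.StalkMod.stalkLin_zero,
      LinearMap.zero_apply, stalkLin_comp, LinearMap.comp_apply]
    apply h
    rw [← LinearMap.comp_apply, ← stalkLin_comp, kernel.condition,
      Groth.Agent.Dcoh.StalkMod.stalkLin_zero, LinearMap.zero_apply]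
  exact ⟨Abelian.epiDesc ρ₁ ρ₂ h0, Abelian.comp_epiDesc ρ₁ ρ₂ h0⟩

theorem exists_iso_of_ker_le {X : Scheme.{u}} {F G₁ G₂ : X.Modules} (ρ₁ : F ⟶ G₁) (ρ₂ : F ⟶ G₂) [Epi ρ₁] [Epi ρ₂]
    (h : ∀ (x : X) (s : F.presheaf.stalk x), stalkLin ρ₁ x s = 0 → stalkLin ρ₂ x s = 0)
    (h' : ∀ (x : X) (s : F.presheaf.stalk x), stalkLin ρ₂ x s = 0 → stalkLin ρ₁ x s = 0) :
    ∃ e : G₁ ≅ G₂, ρ₁ ≫ e.hom = ρ₂ := by
  obtain ⟨a, ha⟩ := exists_hom_of_ker_le ρ₁ ρ₂ h
  obtain ⟨b, hb⟩ := exists_hom_of_ker_le ρ₂ ρ₁ h'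
  refine ⟨⟨a, b, ?_, ?_⟩, ha⟩
  · rw [← cancel_epi ρ₁, ← Category.assoc, ha, hb, Category.comp_id]
  · rw [← cancel_epi ρ₂, ← Category.assoc, hb, ha, Category.comp_id]

end K108.GenQuot
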