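import Groth.Agent.Divis.IdealComap
import Mathlib.AlgebraicGeometry.Morphisms.SchemeTheoreticallyDominant
import Mathlib.RingTheory.Flat.FaithfullyFlat.Algebra

/-!
# Ideal sheaves and flat morphisms

* `isSchemeTheoreticallyDominant_toImage` : `X → im f` is scheme-theoretically dominant, `f`
  quasi-compact.
* `ideal_le` : for `f` flat and surjective, `J₁.comap f ≤ J₂.comap f` implies `J₁ ≤ J₂`.
-/

set_option autoImplicit false
set_option linter.style.haveILetI false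
open CategoryTheory AlgebraicGeometry TopologicalSpace
universe u

namespace K108.IdealDesc

theorem isSchemeTheoreticallyDominant_toImage {X Y : Scheme.{u}} (f : X ⟶ Y) [QuasiCompact f] :
    IsSchemeTheoreticallyDominant f.toImage := by
  constructor
  refine Scheme.IdealSheafData.ext_of_iSup_eq_top
    (fun U : Y.affineOpens => ⟨f.imageι ⁻¹ᵁ U.1, U.2.preimage f.imageι⟩) ?_ ?_
  · have h1 : (⨆ U : Y.affineOpens, (U.1 : Y.Opens)) = ⊤ := AlgebraicGeometry.iSup_affineOpens_eq_top Y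
    have h2 := congrArg (fun W => f.imageι ⁻¹ᵁ W) h1
    simpa using h2
  · intro U
    rw [Scheme.Hom.ker_apply, Scheme.IdealSheafData.ideal_bot, Pi.bot_apply, ← RingHom.injective_iff_ker_eq_bot]
    exact f.toImage_app_injective U

theorem mem_ideal_of_map_mem {X Y : Scheme.{u}} (f : X ⟶ Y) [Flat f] (J : Y.IdealSheafData) (U : Y.affineOpens)
    (V : X.affineOpens) (e : V.1 ≤ f ⁻¹ᵁ U.1) (a : Γ(Y, U.1))
    (ha : (f.appLE U.1 V.1 e).hom a ∈ (J.ideal U).map (f.appLE U.1 V.1 e).hom) (x : X) (hx : x ∈ V.1) :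
    ∃ s : Γ(Y, U.1), f x ∈ Y.basicOpen s ∧ s * a ∈ J.ideal U := by
  have hfx : f x ∈ U.1 := e hx
  letI := (f.stalkMap x).hom.toAlgebra
  haveI : Module.Flat (Y.presheaf.stalk (f x)) (X.presheaf.stalk x) := Flat.stalkMap f x
  haveI : IsLocalHom (algebraMap (Y.presheaf.stalk (f x)) (X.presheaf.stalk x)) :=
    inferInstanceAs (IsLocalHom (f.stalkMap x).hom)
  haveI : Module.FaithfullyFlat (Y.presheaf.stalk (f x)) (X.presheaf.stalk x) :=
    Module.FaithfullyFlat.of_flat_of_isLocalHom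
  have hcomm : Y.presheaf.germ U.1 (f x) hfx ≫ f.stalkMap x =
      f.appLE U.1 V.1 e ≫ X.presheaf.germ V.1 x hx := by
    rw [Scheme.Hom.germ_stalkMap, Scheme.Hom.appLE, Category.assoc, X.presheaf.germ_res]
  have h1 : (f.stalkMap x).hom ((Y.presheaf.germ U.1 (f x) hfx).hom a) ∈
      ((J.ideal U).map (Y.presheaf.germ U.1 (f x) hfx).hom).map (f.stalkMap x).hom := by
    rw [Ideal.map_map, ← CommRingCat.hom_comp, hcomm, ← RingHom.comp_apply, ← CommRingCat.hom_comp, hcomm,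
      CommRingCat.hom_comp, ← Ideal.map_map, RingHom.comp_apply]
    exact Ideal.mem_map_of_mem _ ha
  have h2 : (Y.presheaf.germ U.1 (f x) hfx).hom a ∈ (J.ideal U).map (Y.presheaf.germ U.1 (f x) hfx).hom := by
    have := Ideal.comap_map_eq_self_of_faithfullyFlat (B := X.presheaf.stalk x)
      ((J.ideal U).map (Y.presheaf.germ U.1 (f x) hfx).hom)
    rw [← this, Ideal.mem_comap]
    exact h1
  letI : Algebra Γ(Y, U.1) (Y.presheaf.stalk (f x)) := (Y.presheaf.germ U.1 (f x) hfx).hom.toAlgebra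
  haveI : IsLocalization.AtPrime (Y.presheaf.stalk (f x)) (U.2.primeIdealOf ⟨f x, hfx⟩).asIdeal :=
    U.2.isLocalization_stalk ⟨f x, hfx⟩
  obtain ⟨s, hs, hsa⟩ := (IsLocalization.algebraMap_mem_map_algebraMap_iff
    (U.2.primeIdealOf ⟨f x, hfx⟩).asIdeal.primeCompl (Y.presheaf.stalk (f x)) (J.ideal U) a).mp h2
  refine ⟨s, ?_, hsa⟩
  have h3 : IsUnit (algebraMap Γ(Y, U.1) (Y.presheaf.stalk (f x)) s) :=
    IsLocalization.map_units (Y.presheaf.stalk (f x)) (⟨s, hs⟩ : (U.2.primeIdealOf ⟨f x, hfx⟩).asIdeal.primeCompl)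
  exact (Y.mem_basicOpen s (f x) hfx).mpr h3

theorem ideal_le {X Y : Scheme.{u}} (f : X ⟶ Y) [Flat f] [Surjective f] (J₁ J₂ : Y.IdealSheafData)
    (h : J₁.comap f ≤ J₂.comap f) : J₁ ≤ J₂ := by
  intro U a ha
  let c : Ideal Γ(Y, U.1) := (J₂.ideal U).colon {a}
  have key : ∀ y ∈ U.1, ∃ s ∈ c, y ∈ Y.basicOpen s := by
    intro y hy
    obtain ⟨x, rfl⟩ := f.surjective y
    obtain ⟨V, hV, hxV, hVU⟩ := exists_isAffineOpen_mem_and_subset (U := f ⁻¹ᵁ U.1) (x := x) hy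
    have h1 : (f.appLE U.1 V hVU).hom a ∈ (J₂.ideal U).map (f.appLE U.1 V hVU).hom := by
      have h2 := Groth.Agent.Divis.IdealComap.ideal_comap J₂ f U ⟨V, hV⟩ hVU
      have h3 := Groth.Agent.Divis.IdealComap.ideal_comap J₁ f U ⟨V, hV⟩ hVU
      rw [← h2]
      apply h ⟨V, hV⟩
      rw [h3]
      exact Ideal.mem_map_of_mem _ ha
    obtain ⟨s, hs, hsa⟩ := mem_ideal_of_map_mem f J₂ U ⟨V, hV⟩ hVU a h1 x hxV
    exact ⟨s, by simpa [c, Submodule.mem_colon_singleton] using hsa, hs⟩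
  have hc : c = ⊤ := by
    by_contra hcon
    obtain ⟨m, hm, hcm⟩ := Ideal.exists_le_maximal c hcon
    let p : PrimeSpectrum Γ(Y, U.1) := ⟨m, hm.isPrime⟩
    obtain ⟨s, hs, hys⟩ := key (U.2.fromSpec p) (by
      have : U.2.fromSpec p ∈ Set.range U.2.fromSpec := ⟨p, rfl⟩
      rwa [U.2.range_fromSpec] at this)
    have h4 : p ∈ U.2.fromSpec ⁻¹ᵁ Y.basicOpen s := hys
    rw [U.2.fromSpec_preimage_basicOpen] at h4
    exact h4 (hcm hs)
  have h5 : (1 : Γ(Y, U.1)) ∈ c := by rw [hc]; trivial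
  simpa [c, Submodule.mem_colon_singleton] using h5

end K108.IdealDesc
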