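import Groth.Agent.FDesc.K108.FlatFib
import Groth.Agent.Fdesc.QuasiFlat
import Mathlib.RingTheory.Support

/-!
# Going down for the support of a flat module of finite type

* `exists_prime_of_flat` : `A → B` local, `N ≠ 0` a finite `B`-module flat over `A`: every prime of
  `A` is the contraction of a prime of `B` in the support of `N`.
* `exists_specializes_mem_support` : for `F` quasi-coherent of finite type, flat over `Y` at
  `x ∈ Supp F`, every generization of `f x` is the image of a generization of `x` lying in `Supp F`.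
* `mem_support_tensor_iff` : `Supp (f^* E ⊗ F) = f⁻¹ (Supp E) ∩ Supp F`.
* `asFiber_mem_support_iff` : the support of the restriction of `F` to a fibre.
-/

set_option autoImplicit false
set_option linter.style.haveILetI false
open CategoryTheory AlgebraicGeometry TopologicalSpace TensorProduct IsLocalRing
universe u

namespace K108.SuppDown
open K108.FlatAlg2 K108.FlatMods K108.FlatFib Groth.Agent.Fdesc.PullbackStalk
open Groth.Agent.Fdesc.AssFlat Groth.Agent.CycB.StalkExact Groth.Agent.Fdesc.QuasiFlat

section algebra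

variable {A B : Type*} [CommRing A] [CommRing B] [IsLocalRing A] [IsLocalRing B] [Algebra A B]
  [IsLocalHom (algebraMap A B)] (N : Type*) [AddCommGroup N] [Module A N] [Module B N]
  [IsScalarTower A B N] [Module.Finite B N] [Nontrivial N] [Module.Flat A N]

include N in
theorem exists_prime_of_flat (p : PrimeSpectrum A) :
    ∃ q : PrimeSpectrum B, q ∈ Module.support B N ∧ q.comap (algebraMap A B) = p := by
  let I : Ideal B := Module.annihilator B N
  have hI : I ≠ ⊤ := by
    intro h
    have h1 : (1 : B) ∈ Module.annihilator B N := by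
      change (1 : B) ∈ I
      rw [h]; trivial
    rw [Module.mem_annihilator] at h1
    obtain ⟨n, hn⟩ := exists_ne (0 : N)
    exact hn (by rw [← one_smul B n, h1])
  have : Nontrivial (B ⧸ I) := Ideal.Quotient.nontrivial_iff.mpr hI
  have : IsLocalRing (B ⧸ I) :=
    IsLocalRing.of_surjective' (Ideal.Quotient.mk I) Ideal.Quotient.mk_surjective
  letI : Module (B ⧸ I) N := Module.quotientAnnihilator
  haveI : IsScalarTower B (B ⧸ I) N := ⟨fun b c n => by
    obtain ⟨c, rfl⟩ := Ideal.Quotient.mk_surjective c
    change (Ideal.Quotient.mk I (b * c)) • n = b • ((Ideal.Quotient.mk I c) • n)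
    change (b * c) • n = b • (c • n)
    rw [mul_smul]⟩
  haveI : IsScalarTower A (B ⧸ I) N := IsScalarTower.to₁₃₄ A B (B ⧸ I) N
  haveI : Module.Finite (B ⧸ I) N := Module.Finite.of_restrictScalars_finite B (B ⧸ I) N
  haveI : IsLocalHom (algebraMap A (B ⧸ I)) := by
    have h1 : algebraMap A (B ⧸ I) = (Ideal.Quotient.mk I).comp (algebraMap A B) := rfl
    rw [h1]
    haveI : IsLocalHom (Ideal.Quotient.mk I) :=
      IsLocalHom.of_surjective _ Ideal.Quotient.mk_surjective
    infer_instance
  obtain ⟨q, hq⟩ := comap_surjective_of_finite_flat (A := A) (B := B ⧸ I) N p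
  refine ⟨q.comap (Ideal.Quotient.mk I), ?_, ?_⟩
  · rw [Module.mem_support_iff_of_finite]
    intro a ha
    change Ideal.Quotient.mk I a ∈ q.asIdeal
    rw [Ideal.Quotient.eq_zero_iff_mem.mpr ha]
    exact zero_mem _
  · rw [← hq]
    rfl

end algebra

variable {X Y Z : Scheme.{u}}

theorem mem_support_iff {M : X.Modules} {x : X} :
    x ∈ CohB1.support M ↔ Nontrivial (M.presheaf.stalk x) :=
  not_subsingleton_iff_nontrivial

/-- The point of `Spec O_{X,x}` given by a generization `ξ` of `x` maps to `ξ`. -/
theorem fromSpecStalk_primeOf {x ξ : X} (h : ξ ⤳ x) :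
    X.fromSpecStalk x (Groth.Agent.CycB.LocQuot.primeOf h) = ξ := by
  have h1 := Scheme.SpecMap_stalkSpecializes_fromSpecStalk h
  have h2 : (Spec.map (X.presheaf.stalkSpecializes h) ≫ X.fromSpecStalk x)
      (closedPoint (X.presheaf.stalk ξ)) = ξ := by
    rw [h1, Scheme.fromSpecStalk_closedPoint]
  exact h2

theorem mem_support_fromSpecStalk_iff (M : X.Modules) (hM : Coh.IsQCoh M) (x : X)
    (q : Spec (X.presheaf.stalk x)) :
    X.fromSpecStalk x q ∈ CohB1.support M ↔
      q ∈ Module.support (X.presheaf.stalk x) (M.presheaf.stalk x) := by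
  have h : X.fromSpecStalk x q ⤳ x := by
    have : X.fromSpecStalk x q ∈ Set.range (X.fromSpecStalk x) := ⟨q, rfl⟩
    rw [Scheme.range_fromSpecStalk] at this
    exact this
  have hq : Groth.Agent.CycB.LocQuot.primeOf h = q :=
    (X.fromSpecStalk x).isEmbedding.injective (fromSpecStalk_primeOf h)
  letI := Groth.Agent.CycB.StalkLoc.specMod M h
  haveI := Groth.Agent.CycB.StalkLoc.isLocalizedModule_specLin M hM h
  have e := IsLocalizedModule.iso (RingHom.ker (Cyc.specMap x _ h)).primeCompl
    (Groth.Agent.CycB.StalkLoc.specLin M h)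
  rw [mem_support_iff, ← e.toEquiv.nontrivial_congr]
  have h5 : ∀ (q' : PrimeSpectrum (X.presheaf.stalk x)) (I : Ideal (X.presheaf.stalk x))
      [I.IsPrime], q'.asIdeal = I →
      (Nontrivial (LocalizedModule I.primeCompl (M.presheaf.stalk x)) ↔
      q' ∈ Module.support (X.presheaf.stalk x) (M.presheaf.stalk x)) := by
    rintro q' I _ rfl
    exact Module.mem_support_iff.symm
  exact h5 q _ (by rw [← Groth.Agent.CycB.LocQuot.primeOf_asIdeal h, hq])

/-- For `F` quasi-coherent of finite type, flat over `Y` at `x ∈ Supp F`, every generization of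
`f x` is the image of a generization of `x` in `Supp F`. -/
theorem exists_specializes_mem_support (f : X ⟶ Y) (F : X.Modules) (hF : Coh.IsCoh F) (x : X)
    (hflat : FlatMod.IsFlatOverAt f F x) (hx : x ∈ CohB1.support F) {w : Y} (hw : w ⤳ f x) :
    ∃ z ∈ CohB1.support F, z ⤳ x ∧ f z = w := by
  letI := FlatMod.moduleStalkOver f F x
  letI := stalkAlg f x
  haveI := Groth.Agent.Fdesc.PullbackStalk.isScalarTower f F x
  haveI : Module.Flat (Y.presheaf.stalk (f.base x)) (F.presheaf.stalk x) := hflat
  haveI := Groth.Agent.CycB.StalkLoc.finite_stalk F hF x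
  haveI := mem_support_iff.mp hx
  haveI : IsLocalHom (algebraMap (Y.presheaf.stalk (f.base x)) (X.presheaf.stalk x)) :=
    inferInstanceAs (IsLocalHom (f.stalkMap x).hom)
  have hy : w ∈ Set.range (Y.fromSpecStalk (f.base x)) := by
    rw [Scheme.range_fromSpecStalk]
    exact hw
  obtain ⟨p, hp⟩ := hy
  obtain ⟨q, hq1, hq⟩ := exists_prime_of_flat (A := Y.presheaf.stalk (f.base x))
    (B := X.presheaf.stalk x) (F.presheaf.stalk x) p
  refine ⟨X.fromSpecStalk x q, ?_, ?_, ?_⟩
  · rw [mem_support_fromSpecStalk_iff F hF.1 x q]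
    exact hq1
  · have : X.fromSpecStalk x q ∈ Set.range (X.fromSpecStalk x) := ⟨q, rfl⟩
    rw [Scheme.range_fromSpecStalk] at this
    exact this
  · have h1 := Scheme.SpecMap_stalkMap_fromSpecStalk f (x := x)
    rw [← hp, ← hq]
    have h2 : (X.fromSpecStalk x ≫ f) q = (Spec.map (f.stalkMap x) ≫ Y.fromSpecStalk _) q := by
      rw [h1]
    exact h2

/-- `Supp (f^* E ⊗ F) = f⁻¹ (Supp E) ∩ Supp F` for `F` of finite type and flat over `Y`. -/
theorem mem_support_tensor_iff (f : X ⟶ Y) (E : Y.Modules) (F : X.Modules)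
    (hF : Coh.IsCoh F) (x : X) (hflat : FlatMod.IsFlatOverAt f F x) :
    x ∈ CohB1.support (CohB1.tensorMod ((Scheme.Modules.pullback f).obj E) F) ↔
      f x ∈ CohB1.support E ∧ x ∈ CohB1.support F := by
  letI := FlatMod.moduleStalkOver f F x
  letI := stalkAlg f x
  haveI := Groth.Agent.Fdesc.PullbackStalk.isScalarTower f F x
  haveI : Module.Flat (Y.presheaf.stalk (f.base x)) (F.presheaf.stalk x) := hflat
  haveI := Groth.Agent.CycB.StalkLoc.finite_stalk F hF x
  haveI : IsLocalHom (algebraMap (Y.presheaf.stalk (f.base x)) (X.presheaf.stalk x)) :=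
    inferInstanceAs (IsLocalHom (f.stalkMap x).hom)
  rw [mem_support_iff, mem_support_iff, mem_support_iff,
    (stalkEquiv f E F x).toEquiv.nontrivial_congr]
  by_cases hx : Nontrivial (F.presheaf.stalk x)
  · haveI := faithfullyFlat_of_finite (A := Y.presheaf.stalk (f.base x))
      (B := X.presheaf.stalk x) (F.presheaf.stalk x)
    rw [and_iff_left hx]
    exact Module.FaithfullyFlat.nontrivial_tensorProduct_iff_right
      (R := Y.presheaf.stalk (f.base x)) (M := F.presheaf.stalk x)
      (N := E.presheaf.stalk (f.base x))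
  · refine ⟨fun h => (hx ?_).elim, fun h => (hx h.2).elim⟩
    by_contra h1
    rw [not_nontrivial_iff_subsingleton] at h1
    exact (not_subsingleton_iff_nontrivial.2 h) inferInstance

end K108.SuppDown
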