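import Groth.Agent.Fdesc.GenTop
import Groth.Agent.Fdesc.QuasiCompactTop
import Groth.Agent.Ega4fib.H119.ProIndScheme
import Mathlib.AlgebraicGeometry.Fiber
import Mathlib.AlgebraicGeometry.Morphisms.Flat
import Mathlib.AlgebraicGeometry.Morphisms.UniversallyOpen

/-!
# Topological lemmas for descent along morphisms lifting generizations

* `exists_specializes_of_mem_closure` : a point of the closure of a pro-constructible set is a
  specialization of a point of it.
* `preimage_closure_eq` : the preimage of the closure of a pro-constructible set along a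
  generalizing morphism is the closure of the preimage.
* `generalizingMap_fiber` : in a cartesian square the map induced on the fibres over a point of
  the base is generalizing (it is flat).
-/

set_option autoImplicit false
open CategoryTheory AlgebraicGeometry TopologicalSpace CategoryTheory.Limits
universe u

namespace K108.TopDesc
open Groth.Agent.Fdesc.GenTop Groth.Agent.Fdesc.QuasiCompactTop

/-- A point of the closure of a pro-constructible set is a specialization of a point of it. -/
theorem exists_specializes_of_mem_closure {Y : Scheme.{u}} {Z : Set Y}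
    (hZ : ProCons.IsProConstructible Z) {y : Y} (hy : y ∈ closure Z) : ∃ z ∈ Z, z ⤳ y := by
  obtain ⟨V, hV, hyV, -⟩ := exists_isAffineOpen_mem_and_subset (x := y) (U := ⊤) trivial
  have hV' : IsAffine V := hV
  obtain ⟨B, g, hg⟩ := Groth.Agent.Ega4fib.H119.ProIndScheme.exists_affine_range
    (X := (V : Scheme.{u}))
    (Groth.Agent.Ega4fib.H119.ProInd.isPro_preimage_of_isOpenEmbedding V.ι.isOpenEmbedding hZ)
  have h1 : (⟨y, hyV⟩ : (V : Scheme.{u})) ∈ closure (Set.range g) := by
    rw [hg, ← V.ι.isOpenEmbedding.isOpenMap.preimage_closure_eq_closure_preimage V.ι.continuous]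
    exact hy
  obtain ⟨b, hb⟩ := exists_specializes_of_mem_closure_range g _ h1
  have h2 : g b ∈ V.ι ⁻¹' Z := hg ▸ ⟨b, rfl⟩
  exact ⟨V.ι (g b), h2, hb.map V.ι.continuous⟩

theorem preimage_closure_eq {X Y : Scheme.{u}} (f : X ⟶ Y) (hf : GeneralizingMap f) {Z : Set Y}
    (hZ : ProCons.IsProConstructible Z) : f ⁻¹' closure Z = closure (f ⁻¹' Z) := by
  refine subset_antisymm ?_ (f.continuous.closure_preimage_subset _)
  intro x hx
  obtain ⟨y', hy', hs⟩ := exists_specializes_of_mem_closure hZ hx
  obtain ⟨x', hx', hxy⟩ := hf hs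
  have h1 : x' ∈ f ⁻¹' Z := by rw [Set.mem_preimage, hxy]; exact hy'
  exact closure_mono (Set.singleton_subset_iff.mpr h1) (specializes_iff_mem_closure.mp hx')

/-- In a cartesian square `P = X ×_Y Y'`, the map `W = P_y → F = Y'_y` on the fibres over a point
`y` of `Y` is flat, being a base change of `X_y → Spec κ(y)`. -/
theorem flat_fiber {X Y Y' P W F : Scheme.{u}} {f : X ⟶ Y} {g : Y' ⟶ Y} {p : P ⟶ X} {q : P ⟶ Y'}
    (H : IsPullback p q f g) (y : Y)
    {w : W ⟶ P} {i : F ⟶ Y'} {s : F ⟶ Spec (Y.residueField y)} {t : W ⟶ F}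
    (H' : IsPullback w t q i) (hs : i ≫ g = s ≫ Y.fromSpecResidueField y) : Flat t := by
  have h1 : IsPullback (w ≫ p) t f (i ≫ g) := H'.paste_horiz H
  rw [hs] at h1
  have h2 := h1.of_right' (IsPullback.of_hasPullback f (Y.fromSpecResidueField y))
  have : Flat (pullback.snd f (Y.fromSpecResidueField y)) := inferInstance
  exact MorphismProperty.of_isPullback (P := @Flat) h2 this

theorem snd_mem_genericPoints {X Y Y' P : Scheme.{u}} {f : X ⟶ Y} {g : Y' ⟶ Y} {p : P ⟶ X}
    {q : P ⟶ Y'} (H : IsPullback p q f g) {z : P} (hz : z ∈ genericPoints P)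
    (hy : g (q z) ∈ genericPoints Y) : q z ∈ genericPoints Y' := by
  rw [mem_genericPoints_iff] at hz hy ⊢
  intro y₀ hy₀
  have hgy : g y₀ = g (q z) := hy _ (hy₀.map g.continuous)
  let i := g.fiberι (g (q z))
  have hi : i ≫ g = g.fiberToSpecResidueField _ ≫ Y.fromSpecResidueField (g (q z)) :=
    pullback.condition
  have hfl : Flat (pullback.snd q i) := flat_fiber H (g (q z)) (IsPullback.of_hasPullback q i) hi
  have hgen := Flat.generalizingMap (pullback.snd q i)
  have ha : i (g.asFiber (q z)) = q z := g.fiberι_asFiber (q z)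
  obtain ⟨a₀, ha₀⟩ : y₀ ∈ Set.range i := by
    rw [g.range_fiberι]
    exact hgy
  obtain ⟨w, hw1, hw2⟩ := Scheme.Pullback.exists_preimage_pullback z (g.asFiber (q z)) ha.symm
  have hsp : a₀ ⤳ g.asFiber (q z) := by
    rw [← i.isEmbedding.isInducing.specializes_iff, ha₀, ha]
    exact hy₀
  rw [← hw2] at hsp
  obtain ⟨w', hw', hw'2⟩ := hgen hsp
  have h3 := hw'.map (pullback.fst q i).continuous
  rw [hw1] at h3
  have h4 := hz _ h3
  rw [← h4, ← Scheme.Hom.comp_apply, pullback.condition, Scheme.Hom.comp_apply, hw'2, ha₀]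

end K108.TopDesc
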